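import Cfsg.Agent.SpecEight.Upper

/-!
Primary decomposition of an eight dimensional symplectic isometry in characteristic two.
-/

set_option autoImplicit false

namespace Cfsg.Agent.SpecEight

open Module Polynomial Cfsg.Agent.Forms

variable {F V : Type*} [Field F] [AddCommGroup V] [Module F V]

/-- The dimension of the kernel of a product of pairwise coprime polynomials. -/
theorem finrank_ker_prod [FiniteDimensional F V] (b : Module.End F V) {s : Finset F[X]}
    (hs : ∀ f ∈ s, ∀ g ∈ s, f ≠ g → IsCoprime f g) :
    finrank F (LinearMap.ker (aeval b (∏ f ∈ s, f))) =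
      ∑ f ∈ s, finrank F (LinearMap.ker (aeval b f)) := by
  classical
  induction s using Finset.induction_on with
  | empty => rw [Finset.prod_empty, map_one, Module.End.one_eq_id, LinearMap.ker_id, finrank_bot,
      Finset.sum_empty]
  | insert f s hf ih =>
    rw [Finset.prod_insert hf, Finset.sum_insert hf, ← ih fun g hg k hk =>
      hs g (Finset.mem_insert_of_mem hg) k (Finset.mem_insert_of_mem hk)]
    have hc : IsCoprime f (∏ g ∈ s, g) := IsCoprime.prod_right fun g hg =>
      hs f (Finset.mem_insert_self f s) g (Finset.mem_insert_of_mem hg) fun e => hf (e ▸ hg)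
    rw [← Polynomial.sup_ker_aeval_eq_ker_aeval_mul_of_coprime b hc,
      ← Submodule.finrank_sup_add_finrank_inf_eq,
      (Polynomial.disjoint_ker_aeval_of_isCoprime b hc).eq_bot, finrank_bot, add_zero]

/-- A vector killed by all the factors of a square-free annihilator. -/
theorem apply_eq_zero_of_kernels [FiniteDimensional F V] (b T : Module.End F V) {s : Finset F[X]}
    (hs : ∀ f ∈ s, ∀ g ∈ s, f ≠ g → IsCoprime f g)
    (hb : aeval b (∏ f ∈ s, f) = 0)
    (hT : ∀ f ∈ s, ∀ x, aeval b f x = 0 → T x = 0) : T = 0 := by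
  classical
  have key : ∀ s' ⊆ s, LinearMap.ker (aeval b (∏ f ∈ s', f)) ≤ LinearMap.ker T := by
    intro s'
    induction s' using Finset.induction_on with
    | empty =>
      intro _
      rw [Finset.prod_empty, map_one, Module.End.one_eq_id, LinearMap.ker_id]
      exact bot_le
    | insert f s' hf ih =>
      intro h
      rw [Finset.insert_subset_iff] at h
      rw [Finset.prod_insert hf]
      have hc : IsCoprime f (∏ g ∈ s', g) := IsCoprime.prod_right fun g hg =>
        hs f h.1 g (h.2 hg) fun e => hf (e ▸ hg)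
      rw [← Polynomial.sup_ker_aeval_eq_ker_aeval_mul_of_coprime b hc]
      exact sup_le (fun x hx => hT f h.1 x hx) (ih h.2)
  refine LinearMap.ext fun x => ?_
  exact key s le_rfl (by rw [hb]; simp)

/-- The minimal polynomial of the inverse of the root. -/
noncomputable def star (f : F[X]) [Fact (Irreducible f)] : F[X] :=
  minpoly F (AdjoinRoot.root f)⁻¹

theorem root_eq_or (f : F[X]) [Fact (Irreducible f)] (hmon : f.Monic) :
    minpoly F (AdjoinRoot.root f) = f := by
  rw [AdjoinRoot.minpoly_root (Fact.out : Irreducible f).ne_zero, hmon.leadingCoeff]; simp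

theorem star_props (f : F[X]) [hf : Fact (Irreducible f)] :
    Irreducible (star f) ∧ (star f).Monic ∧ (star f).natDegree ≤ f.natDegree := by
  haveI : Module.Finite F (AdjoinRoot f) := (AdjoinRoot.powerBasis hf.out.ne_zero).finite
  have hi : IsIntegral F (AdjoinRoot.root f)⁻¹ := IsIntegral.of_finite F _
  refine ⟨minpoly.irreducible hi, minpoly.monic hi, ?_⟩
  refine (minpoly.natDegree_le _).trans (le_of_eq ?_)
  rw [(AdjoinRoot.powerBasis hf.out.ne_zero).finrank, AdjoinRoot.powerBasis_dim]

/-- The starred polynomial of the starred polynomial. -/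
theorem star_star (f : F[X]) [hf : Fact (Irreducible f)] (hmon : f.Monic) {g : F[X]}
    [hg : Fact (Irreducible g)] (e : g = star f) : star g = f := by
  haveI : Module.Finite F (AdjoinRoot f) := (AdjoinRoot.powerBasis hf.out.ne_zero).finite
  have h0 : aeval (AdjoinRoot.root f)⁻¹ g = 0 := by rw [e]; exact minpoly.aeval F _
  let σ : AdjoinRoot g →ₐ[F] AdjoinRoot f :=
    AdjoinRoot.liftAlgHom g (Algebra.ofId F _) (AdjoinRoot.root f)⁻¹ h0
  have hσ : σ (AdjoinRoot.root g) = (AdjoinRoot.root f)⁻¹ := AdjoinRoot.liftAlgHom_root _ _ _ _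
  rw [star, ← minpoly.algHom_eq σ σ.injective, map_inv₀, hσ, inv_inv, root_eq_or f hmon]

/-- Vectors killed by `f` at the inverse are killed by the starred polynomial. -/
theorem ker_inv_le_star {a : V ≃ₗ[F] V} {f : F[X]} [hf : Fact (Irreducible f)] (hmon : f.Monic)
    {x : V} (hx : aeval (a.symm : Module.End F V) f x = 0) :
    aeval (a : Module.End F V) (star f) x = 0 := by
  rcases eq_or_ne x 0 with rfl | hx0
  · simp
  obtain ⟨φ, hφi, hφ1, hφ⟩ := exists_cyclic (a.symm : Module.End F V) hf.out hmon hx0 hx
  set r := AdjoinRoot.root f with hr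
  have hroot : ∀ y, φ (r * y) = a.symm (φ y) := by
    intro y
    have := hφ X y
    rwa [AdjoinRoot.mk_X, aeval_X] at this
  have hr0 : r ≠ 0 := by
    intro h
    have h1 := hroot 1
    rw [h, zero_mul, map_zero, hφ1] at h1
    exact hx0 (a.symm.injective (by simpa using h1.symm))
  have hinv : ∀ y, φ (r⁻¹ * y) = a (φ y) := by
    intro y
    refine a.symm.injective ?_
    rw [← hroot, mul_inv_cancel_left₀ hr0, a.symm_apply_apply]
  have hall : ∀ (p : F[X]) y, φ (aeval r⁻¹ p * y) = aeval (a : Module.End F V) p (φ y) := by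
    intro p
    induction p using Polynomial.induction_on' with
    | add p₁ p₂ h1 h2 => intro y; rw [map_add, add_mul, map_add, h1, h2, map_add]; rfl
    | monomial k c =>
      intro y
      have hk : ∀ k : ℕ, φ (r⁻¹ ^ k * y) = ((a : Module.End F V) ^ k) (φ y) := by
        intro k
        induction k with
        | zero => simp
        | succ k ih => rw [pow_succ', mul_assoc, hinv, ih, pow_succ']; rfl
      rw [aeval_monomial, aeval_monomial, mul_assoc, ← Algebra.smul_def, map_smul, hk]
      rfl
  have h := hall (star f) 1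
  rw [show aeval r⁻¹ (star f) = 0 from minpoly.aeval F _, zero_mul, map_zero, hφ1] at h
  exact h.symm

variable [FiniteDimensional F V]

/-- The kernel of `f` embeds in the dual of the kernel of the starred polynomial. -/
theorem finrank_le_star {B : LinearMap.BilinForm F V} (hB : B.Nondegenerate) {a : V ≃ₗ[F] V}
    (ha : ∀ x y, B (a x) (a y) = B x y) {m : ℕ} (hm : (m : F) ≠ 0)
    (ham : (a : Module.End F V) ^ m = 1) {f : F[X]} [hf : Fact (Irreducible f)] (hmon : f.Monic) :
    finrank F (LinearMap.ker (aeval (a : Module.End F V) f)) ≤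
      finrank F (LinearMap.ker (aeval (a : Module.End F V) (star f))) := by
  let W := LinearMap.ker (aeval (a : Module.End F V) (star f))
  let Φ : LinearMap.ker (aeval (a : Module.End F V) f) →ₗ[F] (W →ₗ[F] F) :=
    (B.domRestrict _).compl₂ W.subtype
  have hΦ : Function.Injective Φ := by
    rw [← LinearMap.ker_eq_bot, LinearMap.ker_eq_bot']
    rintro ⟨v, hv⟩ h
    by_contra hne
    obtain ⟨u, hu, hvu⟩ := exists_partner hB ha hm ham hf.out hmon
      (fun e => hne (Subtype.ext e)) (LinearMap.mem_ker.1 hv)
    exact hvu (LinearMap.congr_fun h ⟨u, ker_inv_le_star hmon hu⟩)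
  refine (LinearMap.finrank_le_finrank_of_injective hΦ).trans (le_of_eq ?_)
  exact Subspace.dual_finrank_eq

end Cfsg.Agent.SpecEight
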