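import Cfsg.Agent.SpecEight.Real

/-!
Unipotent isometries of large order in small dimension, characteristic two.
-/

set_option autoImplicit false

namespace Cfsg.Agent.SpecEight

open Module Cfsg.Agent.Forms

variable {F : Type*} [Field F] [CharP F 2]

theorem three_eq : (3 : F) = 1 := by linear_combination (CharTwo.two_eq_zero : (2 : F) = 0)

theorem four_eq : (4 : F) = 0 := by linear_combination 2 * (CharTwo.two_eq_zero : (2 : F) = 0)

theorem five_eq : (5 : F) = 1 := by linear_combination 2 * (CharTwo.two_eq_zero : (2 : F) = 0)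

theorem six_eq : (6 : F) = 0 := by linear_combination 3 * (CharTwo.two_eq_zero : (2 : F) = 0)

theorem seven_eq : (7 : F) = 1 := by linear_combination 3 * (CharTwo.two_eq_zero : (2 : F) = 0)

theorem ten_eq : (10 : F) = 0 := by linear_combination 5 * (CharTwo.two_eq_zero : (2 : F) = 0)

theorem eight_eq : (8 : F) = 0 := by linear_combination 4 * (CharTwo.two_eq_zero : (2 : F) = 0)

/-- An endomorphism with a power equal to one gives an automorphism of the same order. -/
theorem real_of_endo {V : Type*} [AddCommGroup V] [Module F V] (Q : QuadraticForm F V)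
    (g : Module.End F V) (hQ : ∀ v, Q (g v) = Q v) (n : ℕ) (h0 : g ^ 2 ^ (n + 1) = 1)
    (h1 : g ^ 2 ^ n ≠ 1) : Real Q (2 ^ (n + 1)) := by
  have hord : orderOf g = 2 ^ (n + 1) := orderOf_eq_prime_pow h1 h0
  have hu : IsUnit g := IsUnit.of_pow_eq_one h0 (by positivity)
  obtain ⟨u, rfl⟩ := hu
  refine ⟨LinearMap.GeneralLinearGroup.generalLinearEquiv F V u, fun v => hQ v, ?_⟩
  rw [MulEquiv.orderOf_eq, ← orderOf_units, hord]

/-- The reflection of the binary part. -/
theorem real_minus_zero {a b : F} (ha : a ≠ 0) : Real (qMinus 0 F a b) 2 := by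
  let g : Module.End F ((Fin 0 ⊕ Fin 0) ⊕ Fin 2 → F) :=
    { toFun := fun v => Sum.elim (fun i => v (Sum.inl i))
        ![v (Sum.inr 0) + a * v (Sum.inr 1), v (Sum.inr 1)]
      map_add' := fun x y => by
        funext s; rcases s with s | s
        · simp
        · fin_cases s <;> simp <;> ring
      map_smul' := fun c x => by
        funext s; rcases s with s | s
        · simp
        · fin_cases s <;> simp <;> ring }
  refine real_of_endo (n := 0) _ g (fun v => ?_) ?_ ?_
  · simp [g, Cfsg.quadFormMinus]
    ring_nf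
    simp [CharTwo.two_eq_zero, three_eq, four_eq, five_eq, six_eq, seven_eq, eight_eq, ten_eq]
  · refine LinearMap.ext fun v => funext fun s => ?_
    rw [pow_succ, pow_zero, one_mul, sq, Module.End.mul_apply, Module.End.one_apply]
    rcases s with s | s
    · simp [g]
    · fin_cases s <;> simp [g, add_assoc, CharTwo.add_self_eq_zero]
  · intro h
    have := congrFun (LinearMap.congr_fun h (Pi.single (Sum.inr 1) 1)) (Sum.inr 0)
    simp [g, ha] at this

/-- An isometry of order four in dimension four. -/
theorem real_minus_one {a b : F} (ha : a ≠ 0) : Real (qMinus 1 F a b) 4 := by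
  let g : Module.End F ((Fin 1 ⊕ Fin 1) ⊕ Fin 2 → F) :=
    { toFun := fun v => Sum.elim (Sum.elim
          (fun i => v (Sum.inl (Sum.inl i)) + a * v (Sum.inr 0) + b * v (Sum.inl (Sum.inr 0)))
          (fun i => v (Sum.inl (Sum.inr i))))
        ![v (Sum.inr 0) + a * (v (Sum.inr 1) + v (Sum.inl (Sum.inr 0))),
          v (Sum.inr 1) + v (Sum.inl (Sum.inr 0))]
      map_add' := fun x y => by
        funext s; rcases s with (s | s) | s
        · simp; ring
        · simp
        · fin_cases s <;> simp <;> ring
      map_smul' := fun c x => by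
        funext s; rcases s with (s | s) | s
        · simp; ring
        · simp
        · fin_cases s <;> simp <;> ring }
  refine real_of_endo (n := 1) _ g (fun v => ?_) ?_ ?_
  · simp [g, Cfsg.quadFormMinus]
    ring_nf
    simp [CharTwo.two_eq_zero, three_eq, four_eq, five_eq, six_eq, seven_eq, eight_eq, ten_eq]
  · refine LinearMap.ext fun v => funext fun s => ?_
    rw [show 2 ^ (1 + 1) = 4 from rfl, show g ^ 4 = g * (g * (g * g)) by
      rw [← pow_two, ← pow_succ', ← pow_succ'], Module.End.one_apply]
    simp only [Module.End.mul_apply]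
    rcases s with (s | s) | s
    · fin_cases s
      simp [g]
      ring_nf
      simp [CharTwo.two_eq_zero, three_eq, four_eq, five_eq, six_eq, seven_eq, eight_eq, ten_eq]
    · simp [g]
    · fin_cases s
      · simp [g]
        ring_nf
        simp [CharTwo.two_eq_zero, three_eq, four_eq, five_eq, six_eq, seven_eq, eight_eq, ten_eq]
      · simp [g]
        ring_nf
        simp [CharTwo.two_eq_zero, three_eq, four_eq, five_eq, six_eq, seven_eq, eight_eq, ten_eq]
  · intro h
    rw [pow_one, sq] at h
    have := congrFun (LinearMap.congr_fun h (Pi.single (Sum.inr 1) 1)) (Sum.inl (Sum.inl 0))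
    simp [g, ha] at this

/-- An isometry of order eight in dimension six. -/
theorem real_minus_two {a b : F} (ha : a ≠ 0) : Real (qMinus 2 F a b) 8 := by
  let g : Module.End F ((Fin 2 ⊕ Fin 2) ⊕ Fin 2 → F) :=
    { toFun := fun v => Sum.elim (Sum.elim
          ![v (Sum.inl (Sum.inl 0)) + v (Sum.inl (Sum.inl 1)),
            v (Sum.inl (Sum.inl 1)) + a * v (Sum.inr 0)
              + b * (v (Sum.inl (Sum.inr 0)) + v (Sum.inl (Sum.inr 1)))]
          ![v (Sum.inl (Sum.inr 0)), v (Sum.inl (Sum.inr 0)) + v (Sum.inl (Sum.inr 1))])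
        ![v (Sum.inr 0) + a * (v (Sum.inr 1) + v (Sum.inl (Sum.inr 0)) + v (Sum.inl (Sum.inr 1))),
          v (Sum.inr 1) + v (Sum.inl (Sum.inr 0)) + v (Sum.inl (Sum.inr 1))]
      map_add' := fun x y => by
        funext s; rcases s with (s | s) | s <;> fin_cases s <;> simp <;> ring
      map_smul' := fun c x => by
        funext s; rcases s with (s | s) | s <;> fin_cases s <;> simp <;> ring }
  have hg : ∀ v, g v = Sum.elim (Sum.elim
          ![v (Sum.inl (Sum.inl 0)) + v (Sum.inl (Sum.inl 1)),
            v (Sum.inl (Sum.inl 1)) + a * v (Sum.inr 0)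
              + b * (v (Sum.inl (Sum.inr 0)) + v (Sum.inl (Sum.inr 1)))]
          ![v (Sum.inl (Sum.inr 0)), v (Sum.inl (Sum.inr 0)) + v (Sum.inl (Sum.inr 1))])
        ![v (Sum.inr 0) + a * (v (Sum.inr 1) + v (Sum.inl (Sum.inr 0)) + v (Sum.inl (Sum.inr 1))),
          v (Sum.inr 1) + v (Sum.inl (Sum.inr 0)) + v (Sum.inl (Sum.inr 1))] := fun v => rfl
  -- the fourth power
  have h2 : ∀ v, (g * g) v = Sum.elim (Sum.elim
          ![v (Sum.inl (Sum.inl 0)) + a * v (Sum.inr 0)
              + b * (v (Sum.inl (Sum.inr 0)) + v (Sum.inl (Sum.inr 1))),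
            v (Sum.inl (Sum.inl 1)) + b * v (Sum.inl (Sum.inr 0))
              + a ^ 2 * (v (Sum.inr 1) + v (Sum.inl (Sum.inr 0)) + v (Sum.inl (Sum.inr 1)))]
          ![v (Sum.inl (Sum.inr 0)), v (Sum.inl (Sum.inr 1))])
        ![v (Sum.inr 0) + a * v (Sum.inl (Sum.inr 1)),
          v (Sum.inr 1) + v (Sum.inl (Sum.inr 0))] := by
    intro v
    rw [Module.End.mul_apply, hg, hg]
    funext s
    rcases s with (s | s) | s <;> fin_cases s <;> simp <;> ring_nf <;>
      simp [CharTwo.two_eq_zero, three_eq, four_eq, five_eq, six_eq, seven_eq, eight_eq, ten_eq] <;> ring_nf <;>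
      simp [CharTwo.two_eq_zero, three_eq, four_eq, five_eq, six_eq, seven_eq, eight_eq, ten_eq]
  have h4 : ∀ v, ((g * g) * (g * g)) v = Sum.elim (Sum.elim
          ![v (Sum.inl (Sum.inl 0)) + a ^ 2 * v (Sum.inl (Sum.inr 1)),
            v (Sum.inl (Sum.inl 1)) + a ^ 2 * v (Sum.inl (Sum.inr 0))]
          ![v (Sum.inl (Sum.inr 0)), v (Sum.inl (Sum.inr 1))])
        ![v (Sum.inr 0), v (Sum.inr 1)] := by
    intro v
    rw [Module.End.mul_apply, h2, h2]
    funext s
    rcases s with (s | s) | s <;> fin_cases s <;> simp <;> ring_nf <;>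
      simp [CharTwo.two_eq_zero, three_eq, four_eq, five_eq, six_eq, seven_eq, eight_eq, ten_eq]
  refine real_of_endo (n := 2) _ g (fun v => ?_) ?_ ?_
  · rw [hg]
    simp [Cfsg.quadFormMinus, Fin.sum_univ_two]
    ring_nf
    simp [CharTwo.two_eq_zero, three_eq, four_eq, five_eq, six_eq, seven_eq, eight_eq, ten_eq]
  · refine LinearMap.ext fun v => funext fun s => ?_
    rw [show g ^ 2 ^ (2 + 1) = ((g * g) * (g * g)) * ((g * g) * (g * g)) by
      simp [pow_succ, mul_assoc], Module.End.mul_apply _ _ v, h4, h4, Module.End.one_apply]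
    rcases s with (s | s) | s <;> fin_cases s <;> simp <;> ring_nf <;>
      simp [CharTwo.two_eq_zero, three_eq, four_eq, five_eq, six_eq, seven_eq, eight_eq, ten_eq]
  · intro h
    rw [show g ^ 2 ^ 2 = (g * g) * (g * g) by simp [pow_succ, mul_assoc]] at h
    have := congrFun ((h4 (Pi.single (Sum.inl (Sum.inr 1)) 1)).symm.trans (LinearMap.congr_fun h _))
      (Sum.inl (Sum.inl 0))
    simp [ha] at this

/-- Moving to the hyperbolic model. -/
theorem real_plus_of_minus (k : ℕ) {n : ℕ} (h : Real (qMinus k F (1 : F) 0) n) :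
    Real (qPlus (k + 1) F) n := by
  let e : ((Fin k ⊕ Fin k) ⊕ Fin 2 → F) ≃ₗ[F] (Fin (k + 1) ⊕ Fin (k + 1) → F) :=
    { toFun := fun v => Sum.elim
        (Fin.snoc (fun i => v (Sum.inl (Sum.inl i))) (v (Sum.inr 0)))
        (Fin.snoc (fun i => v (Sum.inl (Sum.inr i))) (v (Sum.inr 0) + v (Sum.inr 1)))
      invFun := fun w => Sum.elim
        (Sum.elim (fun i => w (Sum.inl i.castSucc)) (fun i => w (Sum.inr i.castSucc)))
        ![w (Sum.inl (Fin.last k)), w (Sum.inl (Fin.last k)) + w (Sum.inr (Fin.last k))]
      map_add' := fun x y => by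
        funext s
        rcases s with s | s <;> induction s using Fin.lastCases <;> simp <;> ring
      map_smul' := fun c x => by
        funext s
        rcases s with s | s <;> induction s using Fin.lastCases <;> simp <;> ring
      left_inv := fun v => by
        funext s
        rcases s with (s | s) | s
        · simp
        · simp
        · fin_cases s <;> simp [← add_assoc, CharTwo.add_self_eq_zero]
      right_inv := fun w => by
        funext s
        rcases s with s | s <;> induction s using Fin.lastCases <;>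
          simp [← add_assoc, CharTwo.add_self_eq_zero] }
  refine h.congr e fun v => ?_
  simp [e, Cfsg.quadFormMinus, Cfsg.quadFormPlus, Fin.sum_univ_castSucc]
  ring

end Cfsg.Agent.SpecEight
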