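import Cfsg.Agent.SpecEight.Orders
import Cfsg.Agent.SpecEight.Unip
import Cfsg.Agent.Forms.SympSpectrum

/-!
The spectrum of the eight dimensional symplectic group in characteristic two is that of the
orthogonal group of minus type.
-/

set_option autoImplicit false

namespace Cfsg.Agent.SpecEight

open Module Cfsg.Agent.Forms Cfsg.Agent.KnownB.Proj.Orth

variable {F : Type*} [Field F] [Fintype F] [CharP F 2]

theorem even_card_two : Even (Fintype.card F) := by
  obtain ⟨m, _, hm⟩ := FiniteField.card F 2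
  rw [hm]
  exact (Nat.even_pow' m.2.ne').2 even_two

theorem coprime_sub_add {x : ℕ} (h : Even x) (hx : 0 < x) : Nat.Coprime (x - 1) (x + 1) := by
  have hd : Nat.gcd (x - 1) (x + 1) ∣ 2 := by
    have := Nat.dvd_sub (Nat.gcd_dvd_right (x - 1) (x + 1)) (Nat.gcd_dvd_left (x - 1) (x + 1))
    rwa [show x + 1 - (x - 1) = 2 by omega] at this
  rcases (Nat.dvd_prime Nat.prime_two).1 hd with h1 | h1
  · exact h1
  · exfalso
    have := (Nat.gcd_dvd_right (x - 1) (x + 1))
    rw [h1] at this
    obtain ⟨c, hc⟩ := h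
    omega

theorem lcm_eq_mul {u v : ℕ} (h : Nat.Coprime u v) : Nat.lcm u v = u * v := h.lcm_eq_mul

/-- Every listed order is realised in the minus type group of dimension eight. -/
theorem real_list {a b : F} (hab : Aniso a b) {n : ℕ} (h : InList (Fintype.card F) n) :
    Real (qMinus 3 F a b) n := by
  set q := Fintype.card F with hq
  have ha : a ≠ 0 := by
    intro h0
    obtain ⟨s, hs⟩ := FiniteField.isSquare_of_char_two (ringChar.eq F 2) b
    have := hab s 1 (by rw [h0, hs]; ring_nf; simp [CharTwo.two_eq_zero])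
    exact one_ne_zero this.2
  have hev : Even q := even_card_two
  have hq2 : 2 ≤ q := Fintype.one_lt_card
  have hevp : ∀ k, k ≠ 0 → Even (q ^ k) := fun k hk => (Nat.even_pow' hk).2 hev
  have hodd1 : ∀ k, k ≠ 0 → Odd (q ^ k - 1) := fun k hk => by
    obtain ⟨c, hc⟩ := hevp k hk
    have := Nat.one_le_pow k q (by omega)
    exact ⟨c - 1, by omega⟩
  have hodd2 : ∀ k, k ≠ 0 → Odd (q ^ k + 1) := fun k hk => (hevp k hk).add_one
  have hcop2 : ∀ {u : ℕ}, Odd u → Nat.Coprime u 2 := fun hu => Nat.coprime_two_right.2 hu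
  have hcop4 : ∀ {u : ℕ}, Odd u → Nat.Coprime u 4 := fun hu =>
    Nat.Coprime.pow_right 2 (hcop2 hu)
  have hcop8 : ∀ {u : ℕ}, Odd u → Nat.Coprime u 8 := fun hu =>
    Nat.Coprime.pow_right 3 (hcop2 hu)
  have h1 : Real (qMinus 0 F a b) (q + 1) := by simpa using real_minus_torus 0 hab
  have h2 : Real (qMinus 1 F a b) (q ^ 2 + 1) := by simpa using real_minus_torus 1 hab
  have h3 : Real (qMinus 2 F a b) (q ^ 3 + 1) := by simpa using real_minus_torus 2 hab
  have h4 : Real (qMinus 3 F a b) (q ^ 4 + 1) := by simpa using real_minus_torus 3 hab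
  have g1 : Real (qPlus 1 F) (q - 1) := by simpa using real_plus_torus (F := F) 1 one_pos
  have g2 : Real (qPlus 2 F) (q ^ 2 - 1) := real_plus_torus (F := F) 2 two_pos
  have g3 : Real (qPlus 3 F) (q ^ 3 - 1) := real_plus_torus (F := F) 3 three_pos
  have u1 : Real (qPlus 1 F) 2 := real_plus_of_minus 0 (real_minus_zero one_ne_zero)
  have u2 : Real (qPlus 2 F) 4 := real_plus_of_minus 1 (real_minus_one one_ne_zero)
  have u3 : Real (qPlus 3 F) 8 := real_plus_of_minus 2 (real_minus_two one_ne_zero)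
  rcases h with h | h | h | h | h | h | h | h | h | h | h | h
  · exact h4.mono h
  · have := real_minus_add 2 1 g2 h2
    rw [lcm_eq_mul (coprime_sub_add (hevp 2 two_ne_zero) (by positivity)), ← mul_comm,
      ← Nat.sq_sub_sq (q ^ 2) 1, ← pow_mul, one_pow] at this
    exact this.mono h
  · have := real_minus_add 3 0 g3 h1
    have hc : Nat.Coprime (q ^ 3 - 1) (q + 1) :=
      (coprime_sub_add (hevp 3 (by norm_num)) (by positivity)).of_dvd_right
        (by simpa using Odd.nat_add_dvd_pow_add_pow q 1 (show Odd 3 by decide))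
    rw [lcm_eq_mul hc] at this
    exact this.mono h
  · have := real_minus_add 1 2 g1 h3
    have hc : Nat.Coprime (q - 1) (q ^ 3 + 1) :=
      (coprime_sub_add (hevp 3 (by norm_num)) (by positivity)).of_dvd_left
        (by simpa using Nat.sub_dvd_pow_sub_pow q 1 3)
    rw [lcm_eq_mul hc, mul_comm] at this
    exact this.mono h
  · have := real_minus_add 3 0 g3 (real_minus_zero (b := b) ha)
    rw [lcm_eq_mul ((hcop2 (hodd1 3 (by norm_num)))), mul_comm] at this
    exact this.mono h
  · have := real_minus_add 1 2 u1 h3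
    rw [lcm_eq_mul ((hcop2 (hodd2 3 (by norm_num))).symm)] at this
    exact this.mono h
  · have := real_minus_add 2 1 (real_plus_add 1 1 g1 u1) h2
    have hc : Nat.Coprime (q - 1) (q ^ 2 + 1) :=
      (coprime_sub_add (hevp 2 two_ne_zero) (by positivity)).of_dvd_left
        (by simpa using Nat.sub_dvd_pow_sub_pow q 1 2)
    have ho : Odd (q - 1) := by simpa using hodd1 1 one_ne_zero
    rw [lcm_eq_mul (hcop2 ho), lcm_eq_mul
      (Nat.Coprime.mul_left hc ((hcop2 (hodd2 2 two_ne_zero)).symm))] at this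
    exact this.mono (h.trans (dvd_of_eq (by ring)))
  · have := real_minus_add 2 1 (real_plus_two_circle (F := F)) h2
    have hc : Nat.Coprime (q + 1) (q ^ 2 + 1) :=
      (coprime_sub_add (hevp 2 two_ne_zero) (by positivity)).of_dvd_left
        ⟨q - 1, by simpa using Nat.sq_sub_sq q 1⟩
    rw [lcm_eq_mul (Nat.Coprime.mul_left ((hcop2 (hodd2 2 two_ne_zero)).symm) hc)] at this
    exact this.mono (h.trans (dvd_of_eq (by ring)))
  · have := real_minus_add 2 1 g2 (real_minus_one (b := b) ha)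
    rw [lcm_eq_mul (hcop4 (hodd1 2 two_ne_zero)), mul_comm] at this
    exact this.mono h
  · have := real_minus_add 2 1 u2 h2
    rw [lcm_eq_mul (hcop4 (hodd2 2 two_ne_zero)).symm] at this
    exact this.mono h
  · have := real_minus_add 1 2 g1 (real_minus_two (b := b) ha)
    have ho : Odd (q - 1) := by simpa using hodd1 1 one_ne_zero
    rw [lcm_eq_mul (hcop8 ho), mul_comm] at this
    exact this.mono h
  · have := real_minus_add 3 0 u3 h1
    have ho : Odd (q + 1) := by simpa using hodd2 1 one_ne_zero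
    rw [lcm_eq_mul (hcop8 ho).symm] at this
    exact this.mono h

/-- Scalars in the symplectic group are trivial. -/
theorem exists_psp_equiv : ∃ (B : LinearMap.BilinForm F (Fin (4 + 4) → F)) (_ : B.IsAlt)
    (_ : B.Nondegenerate), Nonempty (altGroup B ≃* Cfsg.PSp 4 F) := by
  obtain ⟨B, hA, hB, π, hπ, hker⟩ := exists_psp_hom (F := F) 4 (by norm_num)
  refine ⟨B, hA, hB, ⟨MulEquiv.ofBijective π ⟨(injective_iff_map_eq_one π).2 fun g hg => ?_, hπ⟩⟩⟩
  obtain ⟨c, hc⟩ := (hker g).1 hg
  obtain ⟨x, y, hxy⟩ : ∃ x y, B x y ≠ 0 := by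
    by_contra hcon
    push Not at hcon
    obtain ⟨x, hx⟩ := exists_ne (0 : Fin (4 + 4) → F)
    exact hx (hB.1 x (hcon x))
  have h := g.2.1 x y
  simp only [hc, map_smul, LinearMap.smul_apply, smul_eq_mul] at h
  rw [← mul_assoc] at h
  have hc1 : c = 1 := CharTwo.sq_injective (by
    show c ^ 2 = (1 : F) ^ 2
    rw [one_pow, sq]; exact (mul_eq_right₀ hxy).1 h)
  exact Subtype.ext (LinearEquiv.ext fun v => by rw [hc, hc1, one_smul]; rfl)

/-- Every element order of the symplectic group is in the list. -/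
theorem psp_inList {n : ℕ} (hn : n ∈ Set.range (orderOf : Cfsg.PSp 4 F → ℕ)) :
    InList (Fintype.card F) n := by
  obtain ⟨B, hA, hB, ⟨e⟩⟩ := exists_psp_equiv (F := F)
  obtain ⟨x, rfl⟩ := hn
  obtain ⟨g, rfl⟩ := e.surjective x
  have h := symp_eight_order (V := Fin (4 + 4) → F) (by simp) hB (a := g.1) g.2.1
  rw [Nat.card_eq_fintype_card, orderOf_end, Subgroup.orderOf_coe] at h
  rwa [MulEquiv.orderOf_eq]

/-- Orders realised in an eight dimensional orthogonal group are orders in the symplectic group. -/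
theorem real_psp {ι : Type} [Fintype ι] (hι : Fintype.card ι = 8) {Q : QuadraticForm F (ι → F)}
    (hQ : (QuadraticMap.polarBilin Q).Nondegenerate) {g : (ι → F) ≃ₗ[F] (ι → F)}
    (hg : ∀ v, Q (g v) = Q v) : orderOf g ∈ Set.range (orderOf : Cfsg.PSp 4 F → ℕ) := by
  obtain ⟨B, hA, hB, ⟨e⟩⟩ := exists_psp_equiv (F := F)
  have hQA : (QuadraticMap.polarBilin Q).IsAlt := fun v => by
    rw [QuadraticMap.polarBilin_apply_apply, polar_self_two_mul, CharTwo.two_eq_zero, zero_mul]
  obtain ⟨c, hc⟩ := exists_isometryEquiv (n := 4 + 4) (by rw [Module.finrank_pi, hι]) _ hQA hQ.1 B hA hB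
  have hpres : ∀ x y, B (congrEquiv c g x) (congrEquiv c g y) = B x y := by
    intro x y
    obtain ⟨x, rfl⟩ := c.surjective x
    obtain ⟨y, rfl⟩ := c.surjective y
    show B (c (g (c.symm (c x)))) (c (g (c.symm (c y)))) = _
    rw [c.symm_apply_apply, c.symm_apply_apply, hc, hc]
    simp [QuadraticMap.polar, ← map_add, hg]
  refine ⟨e ⟨congrEquiv c g, hpres, fun _ => rfl⟩, ?_⟩
  rw [MulEquiv.orderOf_eq, ← Subgroup.orderOf_coe]
  exact MulEquiv.orderOf_eq (congrEquiv c) g

/-- A realised number is an element order. -/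
theorem exists_orderOf_eq {ι : Type} {Q : QuadraticForm F (ι → F)} {n : ℕ} [Finite ι]
    (h : Real Q n) : ∃ g : (ι → F) ≃ₗ[F] (ι → F), (∀ v, Q (g v) = Q v) ∧ orderOf g = n := by
  obtain ⟨g, hg, hn⟩ := h
  haveI : Finite ((ι → F) ≃ₗ[F] (ι → F)) := Finite.of_injective _ DFunLike.coe_injective
  refine ⟨g ^ (orderOf g / n), fun v => ?_, orderOf_pow_orderOf_div (orderOf_pos g).ne' hn⟩
  induction orderOf g / n with
  | zero => rfl
  | succ k ih => rw [pow_succ']; exact (hg _).trans ih

/-- The two spectra agree. -/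
theorem spectrum_eq {a b : F} (hab : Aniso a b) :
    Set.range (orderOf : Cfsg.PSp 4 F → ℕ) =
      Set.range (orderOf : ↥(Cfsg.isometryGroup F (Cfsg.quadFormMinus 3 F a b)) → ℕ) := by
  rw [← coe_qMinus]
  ext n
  constructor
  · intro hn
    obtain ⟨g, hg, rfl⟩ := exists_orderOf_eq (real_list hab (psp_inList hn))
    refine ⟨(isometryEquiv _).symm ⟨g, (mem_isomGroup_quad_iff _ g).2 hg⟩, ?_⟩
    rw [MulEquiv.orderOf_eq, ← Subgroup.orderOf_coe]
  · rintro ⟨x, rfl⟩
    have h := real_psp (by simp) (qMinus_nondegenerate (m := 3) a b (disc_ne_zero hab))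
      (g := (isometryEquiv _ x).1) ((mem_isomGroup_quad_iff _ _).1 (isometryEquiv _ x).2)
    rwa [Subgroup.orderOf_coe, MulEquiv.orderOf_eq] at h

end Cfsg.Agent.SpecEight
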