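import Cfsg.Agent.SpecEight.Decomp

/-!
The twelve bounds for element orders of symplectic isometries in dimension eight, characteristic two.
-/

set_option autoImplicit false
set_option maxHeartbeats 1000000

namespace Cfsg.Agent.SpecEight

open Module Polynomial Cfsg.Agent.Forms UniqueFactorizationMonoid

variable {F V : Type*} [Field F] [AddCommGroup V] [Module F V]

/-- Powers of an automorphism as endomorphisms. -/
theorem coe_pow (a : V ≃ₗ[F] V) (k : ℕ) :
    ((a ^ k : V ≃ₗ[F] V) : Module.End F V) = (a : Module.End F V) ^ k := by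
  induction k with
  | zero => rfl
  | succ k ih => rw [pow_succ, pow_succ, ← ih]; rfl

theorem orderOf_end (g : V ≃ₗ[F] V) :
    orderOf (g : Module.End F V) = orderOf g :=
  orderOf_eq_orderOf_iff.2 fun k => by
    rw [← coe_pow]
    exact ⟨fun h => LinearEquiv.toLinearMap_injective h, fun h => by rw [h]; rfl⟩

theorem pow_preserves {B : LinearMap.BilinForm F V} {a : V ≃ₗ[F] V}
    (ha : ∀ x y, B (a x) (a y) = B x y) (k : ℕ) : ∀ x y, B ((a ^ k) x) ((a ^ k) y) = B x y := by
  induction k with
  | zero => intro x y; rfl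
  | succ k ih =>
    intro x y
    rw [pow_succ']
    exact (ha _ _).trans (ih x y)

/-- The semisimple and unipotent parts and the primary decomposition, numerically. -/
theorem symp_eight_key [Finite F] [CharP F 2] [FiniteDimensional F V] (hn8 : finrank F V = 8)
    {B : LinearMap.BilinForm F V} (hB : B.Nondegenerate) {a : V ≃ₗ[F] V}
    (ha : ∀ x y, B (a x) (a y) = B x y) {P E : ℕ}
    (hP' : P = 2 ^ (orderOf (a : Module.End F V)).factorization 2)
    (hE' : E = orderOf (a : Module.End F V) / P) (m : ℕ)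
    (hm : ∀ c e, ((a : Module.End F V) ^ E) ^ 2 ^ c = 1 → ((a : Module.End F V) ^ P) ^ e = 1 →
      finrank F (LinearMap.ker ((a : Module.End F V) ^ P - 1)) ≤ 2 ^ c → m ∣ 2 ^ c * e) :
    InList (Nat.card F) m := by
  classical
  haveI : Nontrivial V := Module.nontrivial_of_finrank_pos (R := F) (by omega)
  haveI : Finite V := Module.finite_of_finite F
  haveI : CharP (Module.End F V) 2 :=
    charP_of_injective_algebraMap (algebraMap F (Module.End F V)).injective 2
  set aE : Module.End F V := (a : Module.End F V) with haE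
  set A := orderOf aE with hAdef
  have hA0 : A ≠ 0 := by
    rw [hAdef, Nat.pos_iff_ne_zero.symm]
    have hu : IsUnit aE := ⟨⟨aE, (a.symm : Module.End F V), LinearMap.ext fun x => a.apply_symm_apply x,
      LinearMap.ext fun x => a.symm_apply_apply x⟩, rfl⟩
    obtain ⟨u, hu⟩ := hu
    rw [← hu, orderOf_units]
    haveI : Finite (Module.End F V) := Finite.of_injective (fun (f : Module.End F V) => (f : V → V))
      DFunLike.coe_injective
    exact orderOf_pos u
  obtain rfl : P = 2 ^ A.factorization 2 := hP'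
  subst hE'
  set P := 2 ^ A.factorization 2 with hP
  set E := A / P with hEdef
  have hPE : P * E = A := Nat.ordProj_mul_ordCompl_eq_self A 2
  have hEF : (E : F) ≠ 0 := by
    rw [Ne, CharP.cast_eq_zero_iff F 2]
    exact Nat.not_dvd_ordCompl Nat.prime_two hA0
  have hEpos : 0 < E := Nat.pos_of_ne_zero fun h => hEF (by rw [h, Nat.cast_zero])
  set bq := a ^ P with hbq
  set b : Module.End F V := (bq : Module.End F V) with hbdef
  have hb : b = aE ^ P := coe_pow a P
  set u := aE ^ E with hu
  have hbE : b ^ E = 1 := by rw [hb, ← pow_mul, hPE, hAdef, pow_orderOf_eq_one]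
  have huP : u ^ P = 1 := by rw [hu, ← pow_mul, mul_comm, hPE, hAdef, pow_orderOf_eq_one]
  have hbB : ∀ x y, B (bq x) (bq y) = B x y := pow_preserves ha P
  set N := u - 1 with hN
  have hchar : ∀ i : ℕ, N ^ 2 ^ i = u ^ 2 ^ i - 1 := fun i => by
    rw [hN, sub_pow_char_pow_of_commute 2 i (Commute.one_right u), one_pow]
  have hNnil : IsNilpotent N := ⟨P, by rw [hP, hchar, ← hP, huP, sub_self]⟩
  have hNb : Commute N b := by
    rw [hN, hb, hu]
    exact ((Commute.pow_pow_self aE E P).sub_left (Commute.one_left _))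
  -- the factors
  have hsqf : Squarefree (X ^ E - 1 : F[X]) :=
    ((Polynomial.X_pow_sub_one_separable_iff).2 hEF).squarefree
  have hne : (X ^ E - 1 : F[X]) ≠ 0 := X_pow_sub_C_ne_zero hEpos 1
  set s := (normalizedFactors (X ^ E - 1 : F[X])).toFinset with hs
  have hirr : ∀ f ∈ s, Irreducible f := fun f hf =>
    irreducible_of_normalized_factor f (Multiset.mem_toFinset.1 hf)
  have hmon : ∀ f ∈ s, f.Monic := fun f hf => by
    rw [← normalize_normalized_factor f (Multiset.mem_toFinset.1 hf)]
    exact monic_normalize (hirr f hf).ne_zero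
  have hmems : ∀ f : F[X], Irreducible f → f.Monic → f ∣ X ^ E - 1 → f ∈ s := by
    intro f hfi hfm hfd
    obtain ⟨g, hg, hfg⟩ := exists_mem_normalizedFactors_of_dvd hne hfi hfd
    have hg' : g ∈ s := Multiset.mem_toFinset.2 hg
    exact (eq_of_monic_of_associated hfm (hmon g hg') hfg).symm ▸ hg'
  have hcop : ∀ f ∈ s, ∀ g ∈ s, f ≠ g → IsCoprime f g := fun f hf g hg hfg =>
    ((hirr f hf).coprime_iff_not_dvd).2 fun hd =>
      hfg (eq_of_monic_of_associated (hmon f hf) (hmon g hg)
        ((hirr f hf).associated_of_dvd (hirr g hg) hd))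
  have hprod : aeval b (∏ f ∈ s, f) = 0 := by
    have h1 : Associated (∏ f ∈ s, f) (X ^ E - 1 : F[X]) := by
      rw [hs, Finset.prod_eq_multiset_prod, Multiset.map_id', Multiset.toFinset_val,
        Multiset.dedup_eq_self.2 ((squarefree_iff_nodup_normalizedFactors hne).1 hsqf)]
      exact prod_normalizedFactors hne
    obtain ⟨v, hv⟩ := h1.symm
    rw [← hv, map_mul, map_sub, map_pow, aeval_X, map_one, hbE, sub_self, zero_mul]
  let w : F[X] → ℕ := fun f => finrank F (LinearMap.ker (aeval b f))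
  have hwsum : ∑ f ∈ s, w f = 8 := by
    rw [← finrank_ker_prod b hcop, hprod, LinearMap.ker_zero, finrank_top, hn8]
  let st : F[X] → F[X] := fun f =>
    if h : Irreducible f then (haveI := Fact.mk h; star f) else f
  have hst : ∀ (f : F[X]) [Fact (Irreducible f)], st f = star f := fun f hf => dif_pos hf.out
  -- the facts on a single factor
  have hcyc : ∀ f ∈ s, 0 < w f → ∃ x, x ≠ 0 ∧ aeval b f x = 0 := by
    intro f _ hw
    haveI := Module.nontrivial_of_finrank_pos (R := F) hw
    obtain ⟨x, hx⟩ := exists_ne (0 : LinearMap.ker (aeval b f))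
    exact ⟨x, fun e => hx (Subtype.ext e), LinearMap.mem_ker.1 x.2⟩
  have hdw : ∀ f ∈ s, 0 < w f → f.natDegree ≤ w f := by
    intro f hf hw
    haveI := Fact.mk (hirr f hf)
    haveI : Module.Finite F (AdjoinRoot f) := (AdjoinRoot.powerBasis (hirr f hf).ne_zero).finite
    obtain ⟨x, hx0, hx⟩ := hcyc f hf hw
    obtain ⟨φ, hφi, hφ1, hφ⟩ := exists_cyclic b (hirr f hf) (hmon f hf) hx0 hx
    have hmem : ∀ z, φ z ∈ LinearMap.ker (aeval b f) := fun z => by
      rw [LinearMap.mem_ker, ← hφ f z, AdjoinRoot.mk_self, zero_mul, map_zero]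
    have h := LinearMap.finrank_le_finrank_of_injective
      (f := φ.codRestrict _ hmem) (fun z z' e => hφi (congrArg Subtype.val e))
    rwa [(AdjoinRoot.powerBasis (hirr f hf).ne_zero).finrank, AdjoinRoot.powerBasis_dim] at h
  have hrootE : ∀ (f : F[X]) (_hf : f ∈ s), AdjoinRoot.root f ^ E = 1 := by
    intro f hf
    have hd : f ∣ X ^ E - 1 := dvd_of_mem_normalizedFactors (Multiset.mem_toFinset.1 hf)
    have h := AdjoinRoot.mk_eq_zero.2 hd
    rwa [map_sub, map_pow, AdjoinRoot.mk_X, map_one, sub_eq_zero] at h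
  -- the starred factor
  have hstar : ∀ f ∈ s, 0 < w f → st f ∈ s ∧ w f ≤ w (st f) ∧ (st f).natDegree = f.natDegree ∧
      st (st f) = f := by
    intro f hf hw
    haveI := Fact.mk (hirr f hf)
    rw [hst f]
    obtain ⟨h1, h2, h3⟩ := star_props f
    haveI := Fact.mk h1
    have hss := star_star f (hmon f hf) (g := star f) rfl
    refine ⟨hmems _ h1 h2 (minpoly.dvd F _ ?_), finrank_le_star hB hbB hEF hbE (hmon f hf),
      le_antisymm h3 ?_, ?_⟩
    · rw [map_sub, map_pow, aeval_X, map_one, inv_pow, hrootE f hf, inv_one, sub_self]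
    · have h4 := (star_props (star f)).2.2
      rwa [hss] at h4
    · rw [hst (star f), hss]
  have hroot : ∀ f ∈ s, 0 < w f → f ≠ X - C 1 →
      (st f = f ∧ ∃ h, 0 < h ∧ f.natDegree = h + h ∧
        AdjoinRoot.root f ^ (Nat.card F ^ h + 1) = 1) ∨
      (st f ≠ f ∧ AdjoinRoot.root f ^ (Nat.card F ^ f.natDegree - 1) = 1) := by
    intro f hf hw hf1
    haveI := Fact.mk (hirr f hf)
    have hr0 : AdjoinRoot.root f ≠ 0 := fun h => by
      have := hrootE f hf
      rw [h, zero_pow hEpos.ne'] at this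
      exact zero_ne_one this
    by_cases he : st f = f
    · refine Or.inl ⟨he, root_pow_half ?_ ?_ hr0⟩
      · have := minpoly.aeval F (AdjoinRoot.root f)⁻¹
        rwa [← star, ← hst f, he] at this
      · intro h
        haveI : CharP (AdjoinRoot f) 2 :=
          charP_of_injective_algebraMap (algebraMap F (AdjoinRoot f)).injective 2
        have h1 : AdjoinRoot.root f = 1 :=
          CharTwo.sq_injective (show _ ^ 2 = (1 : AdjoinRoot f) ^ 2 by rw [sq, h, one_pow])
        refine hf1 ?_
        rw [← root_eq_or f (hmon f hf), h1, minpoly.one, map_one]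
    · refine Or.inr ⟨he, ?_⟩
      haveI : Module.Finite F (AdjoinRoot f) := (AdjoinRoot.powerBasis (hirr f hf).ne_zero).finite
      haveI : Finite (AdjoinRoot f) := Module.finite_of_finite F
      haveI := Fintype.ofFinite (AdjoinRoot f)
      haveI := Fintype.ofFinite F
      have hcard : Fintype.card (AdjoinRoot f) = Nat.card F ^ f.natDegree := by
        rw [Module.card_eq_pow_finrank (K := F), Nat.card_eq_fintype_card,
          (AdjoinRoot.powerBasis (hirr f hf).ne_zero).finrank, AdjoinRoot.powerBasis_dim]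
      rw [← hcard]
      exact FiniteField.pow_card_sub_one_eq_one _ hr0
  -- the classes
  let Wm : ℕ → ℕ := fun e => ∑ f ∈ s.filter (fun f => f ≠ X - C 1 ∧ st f ≠ f ∧ f.natDegree = e), w f
  let Wp : ℕ → ℕ := fun e => ∑ f ∈ s.filter (fun f => f ≠ X - C 1 ∧ st f = f ∧ f.natDegree = 2 * e), w f
  let d₀ := ∑ f ∈ s.filter (fun f => f = X - C 1), w f
  have hsum : Wm 1 + Wm 2 + Wm 3 + Wm 4 + Wp 1 + Wp 2 + Wp 3 + Wp 4 + d₀ ≤ 8 := by
    rw [← hwsum]
    simp only [Wm, Wp, d₀, Finset.sum_filter, ← Finset.sum_add_distrib]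
    refine Finset.sum_le_sum fun f _ => ?_
    by_cases h1 : f = X - C 1
    · simp [h1]
    · by_cases h2 : st f = f
      · simp only [h1, h2, ne_eq, not_false_eq_true, not_true, true_and, false_and, if_false]
        split_ifs <;> omega
      · simp only [h1, h2, ne_eq, not_false_eq_true, true_and, false_and, if_false]
        split_ifs <;> omega
  have hpair : ∀ f ∈ s, 0 < w f → f ≠ X - C 1 → st f ≠ f → 2 * w f ≤ Wm f.natDegree := by
    intro f hf hw hf1 hne'
    obtain ⟨hg, hwg, hdg, hgg⟩ := hstar f hf hw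
    have hg1 : st f ≠ X - C 1 := by
      intro h
      refine hne' ?_
      haveI := Fact.mk (hirr f hf)
      haveI : Module.Finite F (AdjoinRoot f) := (AdjoinRoot.powerBasis (hirr f hf).ne_zero).finite
      have h1 := minpoly.aeval F (AdjoinRoot.root f)⁻¹
      rw [← star, ← hst f, h, map_sub, aeval_X, aeval_C, map_one, sub_eq_zero, inv_eq_one] at h1
      refine absurd ?_ hf1
      rw [← root_eq_or f (hmon f hf), h1, minpoly.one, map_one]
    calc 2 * w f ≤ w f + w (st f) := by omega
      _ = ∑ g ∈ {f, st f}, w g := (Finset.sum_pair (Ne.symm hne')).symm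
      _ ≤ _ := Finset.sum_le_sum_of_subset (by
          intro g hg'
          simp only [Finset.mem_insert, Finset.mem_singleton] at hg'
          rcases hg' with rfl | rfl
          · exact Finset.mem_filter.2 ⟨hf, hf1, hne', rfl⟩
          · exact Finset.mem_filter.2 ⟨hg, hg1, by rw [hgg]; exact Ne.symm hne', hdg⟩)
  have hself : ∀ f ∈ s, ∀ h, f ≠ X - C 1 → st f = f → f.natDegree = 2 * h → w f ≤ Wp h := by
    intro f hf h hf1 he hd
    exact Finset.single_le_sum (f := w) (fun _ _ => Nat.zero_le _)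
      (Finset.mem_filter.2 ⟨hf, hf1, he, hd⟩)
  have hone : ∀ f ∈ s, f = X - C 1 → w f ≤ d₀ := fun f hf h =>
    Finset.single_le_sum (f := w) (fun _ _ => Nat.zero_le _) (Finset.mem_filter.2 ⟨hf, h⟩)
  refine inList_of_atoms _ _ (Wm 1 / 2) (Wp 1 / 2) (Wm 2 / 4) (Wp 2 / 4) (Wm 3 / 6) (Wp 3 / 6)
    (Wm 4 / 8) (Wp 4 / 8) d₀ (by omega) ?_
  intro o c h1 h1' h2 h2' h3 h3' h4 h4' hc
  obtain ⟨hc0, hc1, hc1', hc2, hc2', hc3, hc3', hc4, hc4'⟩ := hc
  -- each factor
  have hkey : ∀ f ∈ s, 0 < w f →
      AdjoinRoot.root f ^ o = 1 ∧ w f / f.natDegree ≤ 2 ^ c := by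
    intro f hf hw
    haveI := Fact.mk (hirr f hf)
    have hdvd : ∀ {k : ℕ}, AdjoinRoot.root f ^ k = 1 → k ∣ o → AdjoinRoot.root f ^ o = 1 := by
      rintro k hk ⟨j, rfl⟩
      rw [pow_mul, hk, one_pow]
    by_cases hf1 : f = X - C 1
    · refine ⟨?_, (Nat.div_le_self _ _).trans ((hone f hf hf1).trans hc0)⟩
      have : AdjoinRoot.root f = 1 := by
        have h := AdjoinRoot.mk_eq_zero.2 (dvd_of_eq hf1)
        rwa [map_sub, AdjoinRoot.mk_X, map_one, map_one, sub_eq_zero] at h
      rw [this, one_pow]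
    have hwd := hdw f hf hw
    rcases hroot f hf hw hf1 with ⟨he, h, hh, hd, hpow⟩ | ⟨he, hpow⟩
    · have hW := hself f hf h hf1 he (by omega)
      have hh4 : h ≤ 4 := by
        have := Finset.single_le_sum (f := w) (fun _ _ => Nat.zero_le _) hf
        omega
      have hq := Nat.div_le_div_right (c := f.natDegree) hW
      rw [hd] at hwd hq
      rw [hd]
      interval_cases h
      · exact ⟨hdvd hpow (by rw [pow_one]; exact h1' (Nat.div_pos (by omega) (by omega))),
          hq.trans hc1'⟩
      · exact ⟨hdvd hpow (h2' (Nat.div_pos (by omega) (by omega))), hq.trans hc2'⟩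
      · exact ⟨hdvd hpow (h3' (Nat.div_pos (by omega) (by omega))), hq.trans hc3'⟩
      · exact ⟨hdvd hpow (h4' (Nat.div_pos (by omega) (by omega))), hq.trans hc4'⟩
    · have hW := hpair f hf hw hf1 he
      have hd0 := (hirr f hf).natDegree_pos
      have hW8 : Wm f.natDegree ≤ 8 := by
        rw [← hwsum]
        exact Finset.sum_le_sum_of_subset (Finset.filter_subset _ _)
      generalize hde : f.natDegree = e at *
      have he4 : e ≤ 4 := by omega
      have hq : w f / e ≤ Wm e / (2 * e) := by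
        rw [← Nat.mul_div_mul_left (w f) e two_pos]
        exact Nat.div_le_div_right hW
      interval_cases e
      · exact ⟨hdvd hpow (by rw [pow_one]; exact h1 (Nat.div_pos (by omega) (by omega))),
          hq.trans hc1⟩
      · exact ⟨hdvd hpow (h2 (Nat.div_pos (by omega) (by omega))), hq.trans hc2⟩
      · exact ⟨hdvd hpow (h3 (Nat.div_pos (by omega) (by omega))), hq.trans hc3⟩
      · exact ⟨hdvd hpow (h4 (Nat.div_pos (by omega) (by omega))), hq.trans hc4⟩
  have hw0 : ∀ f x, aeval b f x = 0 → x ≠ 0 → 0 < w f := by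
    intro f x hx hx0
    haveI : Nontrivial (LinearMap.ker (aeval b f)) :=
      ⟨⟨⟨x, hx⟩, 0, fun e => hx0 (congrArg Subtype.val e)⟩⟩
    exact Module.finrank_pos
  have hX1 : X - C 1 ∈ s := hmems _ (irreducible_X_sub_C 1) (monic_X_sub_C 1)
    (dvd_iff_isRoot.2 (by simp))
  have hd : finrank F (LinearMap.ker (aE ^ P - 1)) ≤ 2 ^ c := by
    refine le_trans (le_of_eq_of_le ?_ (hone _ hX1 rfl)) hc0
    simp only [w]
    rw [map_sub, aeval_X, aeval_C, map_one, hb]
  refine hm c o ?_ (hb ▸ ?_) hd
  · refine sub_eq_zero.1 ?_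
    rw [← hchar]
    refine apply_eq_zero_of_kernels b _ hcop hprod fun f hf x hx => ?_
    rcases eq_or_ne x 0 with rfl | hx0
    · simp
    have h := pow_apply_eq_zero_of_commute hNb hNnil (hirr f hf) (hmon f hf) hx
    obtain ⟨j, hj⟩ := Nat.exists_eq_add_of_le (hkey f hf (hw0 f x hx hx0)).2
    rw [hj, add_comm, pow_add, Module.End.mul_apply, h, map_zero]
  · refine sub_eq_zero.1 (apply_eq_zero_of_kernels b _ hcop hprod fun f hf x hx => ?_)
    rcases eq_or_ne x 0 with rfl | hx0
    · simp
    obtain ⟨φ, _, hφ1, hφ⟩ := exists_cyclic b (hirr f hf) (hmon f hf) hx0 hx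
    have hh := hφ (X ^ o) 1
    rw [map_pow, AdjoinRoot.mk_X, (hkey f hf (hw0 f x hx hx0)).1, one_mul, hφ1, map_pow,
      aeval_X] at hh
    rw [LinearMap.sub_apply, Module.End.one_apply, ← hh, sub_self]

/-- The order itself is in the list. -/
theorem symp_eight_order [Finite F] [CharP F 2] [FiniteDimensional F V] (hn8 : finrank F V = 8)
    {B : LinearMap.BilinForm F V} (hB : B.Nondegenerate) {a : V ≃ₗ[F] V}
    (ha : ∀ x y, B (a x) (a y) = B x y) :
    InList (Nat.card F) (orderOf (a : Module.End F V)) := by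
  set aE : Module.End F V := (a : Module.End F V)
  set A := orderOf aE with hA
  refine symp_eight_key hn8 hB ha rfl rfl A fun c e hc he _ => ?_
  have hA0 : 0 < A := by
    rw [hA, orderOf_end]
    haveI : Finite V := Module.finite_of_finite F
    haveI : Finite (V ≃ₗ[F] V) := Finite.of_injective _ DFunLike.coe_injective
    exact orderOf_pos a
  set P := 2 ^ A.factorization 2 with hP
  have hPE : P * (A / P) = A := Nat.ordProj_mul_ordCompl_eq_self A 2
  have h1 : A ∣ A / P * 2 ^ c := orderOf_dvd_of_pow_eq_one (by rw [pow_mul, hc])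
  have h2 : A ∣ P * e := orderOf_dvd_of_pow_eq_one (by rw [pow_mul, he])
  have hEP : Nat.Coprime (A / P) P :=
    (Nat.Coprime.pow_left _ (Nat.coprime_ordCompl Nat.prime_two hA0.ne')).symm
  have hP2 : P ∣ 2 ^ c := hEP.symm.dvd_of_dvd_mul_left ((Dvd.intro _ hPE : P ∣ A).trans h1)
  have hE2 : A / P ∣ e := hEP.dvd_of_dvd_mul_left ((Dvd.intro_left _ hPE : A / P ∣ A).trans h2)
  rw [← hPE]
  exact mul_dvd_mul hP2 hE2

end Cfsg.Agent.SpecEight
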