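import Cfsg.Agent.Linear.OrthTypes
import Mathlib.FieldTheory.Finite.Extension

/-!
Isometries of given order of quadratic spaces in characteristic two.
-/

set_option autoImplicit false

namespace Cfsg.Agent.SpecEight

open Module Cfsg.Agent.Forms Cfsg.Agent.Linear.OrthTypes Cfsg.Agent.KnownB.Proj.Orth

variable {F V W U : Type*} [Field F] [AddCommGroup V] [Module F V] [AddCommGroup W] [Module F W]

/-- Some isometry has order a multiple of `n`. -/
def Real (Q : QuadraticForm F V) (n : ℕ) : Prop :=
  ∃ g : V ≃ₗ[F] V, (∀ v, Q (g v) = Q v) ∧ n ∣ orderOf g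

/-- Conjugation by a linear equivalence. -/
def congrEquiv (e : V ≃ₗ[F] W) : (V ≃ₗ[F] V) ≃* (W ≃ₗ[F] W) where
  toFun g := (e.symm.trans g).trans e
  invFun g := (e.trans g).trans e.symm
  left_inv g := LinearEquiv.ext fun x => by simp
  right_inv g := LinearEquiv.ext fun x => by simp
  map_mul' g h := LinearEquiv.ext fun x => by simp [LinearEquiv.mul_apply]

theorem Real.congr {Q : QuadraticForm F V} {Q' : QuadraticForm F W} {n : ℕ} (h : Real Q n)
    (e : V ≃ₗ[F] W) (he : ∀ x, Q' (e x) = Q x) : Real Q' n := by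
  obtain ⟨g, hg, hn⟩ := h
  refine ⟨congrEquiv e g, fun v => ?_, ?_⟩
  · show Q' (e (g (e.symm v))) = Q' v
    rw [he, hg, ← he, e.apply_symm_apply]
  · rwa [MulEquiv.orderOf_eq]

theorem Real.mono {Q : QuadraticForm F V} {n m : ℕ} (h : Real Q n) (hm : m ∣ n) : Real Q m :=
  let ⟨g, hg, hn⟩ := h; ⟨g, hg, hm.trans hn⟩

theorem real_one (Q : QuadraticForm F V) : Real Q 1 := ⟨1, fun _ => rfl, one_dvd _⟩

/-- Pairs of automorphisms as automorphisms of the product. -/
def prodHom (F V W : Type*) [Field F] [AddCommGroup V] [Module F V] [AddCommGroup W] [Module F W] :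
    (V ≃ₗ[F] V) × (W ≃ₗ[F] W) →* ((V × W) ≃ₗ[F] (V × W)) where
  toFun g := g.1.prodCongr g.2
  map_one' := LinearEquiv.ext fun x => by simp
  map_mul' g h := LinearEquiv.ext fun x => by simp [LinearEquiv.mul_apply]

theorem prodHom_injective : Function.Injective (prodHom F V W) := by
  intro g h e
  refine Prod.ext (LinearEquiv.ext fun x => ?_) (LinearEquiv.ext fun y => ?_)
  · exact congrArg Prod.fst (LinearEquiv.congr_fun e (x, 0))
  · exact congrArg Prod.snd (LinearEquiv.congr_fun e (0, y))

/-- An orthogonal sum realises the least common multiple. -/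
theorem Real.prod {Q : QuadraticForm F V} {Q' : QuadraticForm F W} {n m : ℕ} (h : Real Q n)
    (h' : Real Q' m) : Real (QuadraticMap.prod Q Q') (Nat.lcm n m) := by
  obtain ⟨g, hg, hn⟩ := h
  obtain ⟨g', hg', hm⟩ := h'
  refine ⟨prodHom F V W (g, g'), fun v => ?_, ?_⟩
  · show QuadraticMap.prod Q Q' (g v.1, g' v.2) = _
    simp [hg, hg']
  · rw [orderOf_injective (prodHom F V W) prodHom_injective, Prod.orderOf]
    exact Nat.lcm_dvd (hn.trans (Nat.dvd_lcm_left _ _)) (hm.trans (Nat.dvd_lcm_right _ _))

/-- Splitting off hyperbolic planes from a minus type model. -/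
theorem real_minus_add (j k : ℕ) {a b : F} {n m : ℕ} (h : Real (qPlus j F) n)
    (h' : Real (qMinus k F a b) m) : Real (qMinus (j + k) F a b) (Nat.lcm n m) := by
  let e : ((Fin j ⊕ Fin j → F) × ((Fin k ⊕ Fin k) ⊕ Fin 2 → F)) ≃ₗ[F]
      ((Fin (j + k) ⊕ Fin (j + k)) ⊕ Fin 2 → F) :=
    { toFun := fun p => Sum.elim (Sum.elim
          (Fin.addCases (fun i => p.1 (Sum.inl i)) fun i => p.2 (Sum.inl (Sum.inl i)))
          (Fin.addCases (fun i => p.1 (Sum.inr i)) fun i => p.2 (Sum.inl (Sum.inr i))))
          fun i => p.2 (Sum.inr i)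
      invFun := fun v =>
        (Sum.elim (fun i => v (Sum.inl (Sum.inl (Fin.castAdd k i))))
          (fun i => v (Sum.inl (Sum.inr (Fin.castAdd k i)))),
         Sum.elim (Sum.elim (fun i => v (Sum.inl (Sum.inl (Fin.natAdd j i))))
          (fun i => v (Sum.inl (Sum.inr (Fin.natAdd j i))))) fun i => v (Sum.inr i))
      map_add' := fun x y => by
        funext s
        rcases s with (s | s) | s
        · refine Fin.addCases (fun i => ?_) (fun i => ?_) s <;> simp
        · refine Fin.addCases (fun i => ?_) (fun i => ?_) s <;> simp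
        · simp
      map_smul' := fun c x => by
        funext s
        rcases s with (s | s) | s
        · refine Fin.addCases (fun i => ?_) (fun i => ?_) s <;> simp
        · refine Fin.addCases (fun i => ?_) (fun i => ?_) s <;> simp
        · simp
      left_inv := fun p => by
        refine Prod.ext (funext fun s => ?_) (funext fun s => ?_)
        · rcases s with s | s <;> simp
        · rcases s with (s | s) | s <;> simp
      right_inv := fun v => by
        funext s
        rcases s with (s | s) | s
        · refine Fin.addCases (fun i => ?_) (fun i => ?_) s <;> simp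
        · refine Fin.addCases (fun i => ?_) (fun i => ?_) s <;> simp
        · simp }
  refine (h.prod h').congr e fun x => ?_
  simp [e, Cfsg.quadFormMinus, Cfsg.quadFormPlus, Fin.sum_univ_add]
  ring

/-- Splitting hyperbolic models. -/
theorem real_plus_add (j k : ℕ) {n m : ℕ} (h : Real (qPlus j F) n) (h' : Real (qPlus k F) m) :
    Real (qPlus (j + k) F) (Nat.lcm n m) := by
  let e : ((Fin j ⊕ Fin j → F) × (Fin k ⊕ Fin k → F)) ≃ₗ[F] (Fin (j + k) ⊕ Fin (j + k) → F) :=
    { toFun := fun p => Sum.elim
          (Fin.addCases (fun i => p.1 (Sum.inl i)) fun i => p.2 (Sum.inl i))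
          (Fin.addCases (fun i => p.1 (Sum.inr i)) fun i => p.2 (Sum.inr i))
      invFun := fun v =>
        (Sum.elim (fun i => v (Sum.inl (Fin.castAdd k i))) (fun i => v (Sum.inr (Fin.castAdd k i))),
         Sum.elim (fun i => v (Sum.inl (Fin.natAdd j i))) (fun i => v (Sum.inr (Fin.natAdd j i))))
      map_add' := fun x y => by
        funext s
        rcases s with s | s <;> refine Fin.addCases (fun i => ?_) (fun i => ?_) s <;> simp
      map_smul' := fun c x => by
        funext s
        rcases s with s | s <;> refine Fin.addCases (fun i => ?_) (fun i => ?_) s <;> simp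
      left_inv := fun p => by
        refine Prod.ext (funext fun s => ?_) (funext fun s => ?_) <;> rcases s with s | s <;> simp
      right_inv := fun v => by
        funext s
        rcases s with s | s <;> refine Fin.addCases (fun i => ?_) (fun i => ?_) s <;> simp }
  refine (h.prod h').congr e fun x => ?_
  simp [e, Cfsg.quadFormPlus, Fin.sum_univ_add]

section Tori

variable [Fintype F]

/-- A field extension of any degree. -/
theorem exists_extension (e : ℕ) (he : 0 < e) :
    ∃ (K : Type) (_ : Field K) (_ : Algebra F K) (_ : Fintype K), finrank F K = e := by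
  obtain ⟨p, _⟩ := CharP.exists F
  haveI : Fact p.Prime := ⟨CharP.char_is_prime F p⟩
  haveI : NeZero e := ⟨he.ne'⟩
  haveI : Finite (FiniteField.Extension F p e) := Module.finite_of_finite F
  exact ⟨FiniteField.Extension F p e, inferInstance, inferInstance, Fintype.ofFinite _,
    FiniteField.finrank_extension F p e⟩

/-- The automorphism multiplying by a unit. -/
def mulEquiv {K : Type*} [Field K] [Algebra F K] (u : Kˣ) : K ≃ₗ[F] K where
  toFun x := u * x
  invFun x := (u⁻¹ : Kˣ) * x
  map_add' x y := mul_add _ _ _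
  map_smul' c x := by simp
  left_inv x := u.inv_mul_cancel_left x
  right_inv x := u.mul_inv_cancel_left x

/-- Multiplication as a homomorphism into the automorphisms. -/
def mulHom {K : Type*} [Field K] [Algebra F K] : Kˣ →* (K ≃ₗ[F] K) where
  toFun := mulEquiv
  map_one' := LinearEquiv.ext fun x => by simp [mulEquiv]
  map_mul' u v := LinearEquiv.ext fun x => by simp [mulEquiv, LinearEquiv.mul_apply, mul_assoc]

theorem mulHom_injective {K : Type*} [Field K] [Algebra F K] :
    Function.Injective (mulHom (F := F) (K := K)) := by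
  intro u v e
  refine Units.ext ?_
  have := LinearEquiv.congr_fun e 1
  simpa [mulHom, mulEquiv] using this

/-- The torus of order `q ^ e - 1` in the plus type. -/
theorem real_plus_torus (e : ℕ) (he : 0 < e) :
    Real (qPlus e F) (Fintype.card F ^ e - 1) := by
  classical
  obtain ⟨K, _, _, _, hd⟩ := exists_extension (F := F) e he
  haveI : Module.Finite F K := Module.Finite.of_finite
  obtain ⟨g, hg⟩ := IsCyclic.exists_generator (α := Kˣ)
  have hgord : orderOf g = Fintype.card F ^ e - 1 := by
    rw [orderOf_eq_card_of_forall_mem_zpowers hg, Nat.card_units, Nat.card_eq_fintype_card,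
      Module.card_eq_pow_finrank (K := F), hd]
  obtain ⟨ψ, hψ⟩ : ∃ ψ : K →ₗ[F] F, ψ 1 ≠ 0 := by
    by_contra hc
    push Not at hc
    exact one_ne_zero ((Module.forall_dual_apply_eq_zero_iff F _).1 hc)
  let Q : QuadraticForm F (K × K) :=
    LinearMap.BilinMap.toQuadraticMap (((LinearMap.mul F K).compr₂ ψ).compl₁₂
      (LinearMap.fst F K K) (LinearMap.snd F K K))
  have hQ : ∀ p, Q p = ψ (p.1 * p.2) := fun p => rfl
  have hnd : (QuadraticMap.polarBilin Q).Nondegenerate := by
    have h : ∀ p, (∀ p', QuadraticMap.polar Q p p' = 0) → p = 0 := by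
      intro p hp
      have hpol : ∀ p', QuadraticMap.polar Q p p' = ψ (p.1 * p'.2 + p'.1 * p.2) := by
        intro p'
        simp only [QuadraticMap.polar, hQ, Prod.fst_add, Prod.snd_add, ← map_sub]
        congr 1; ring
      refine Prod.ext ?_ ?_
      · by_contra hne
        have h := hp (0, p.1⁻¹)
        rw [hpol, zero_mul, add_zero, mul_inv_cancel₀ hne] at h
        exact hψ h
      · by_contra hne
        have h := hp (p.2⁻¹, 0)
        rw [hpol, mul_zero, zero_add, inv_mul_cancel₀ hne] at h
        exact hψ h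
    exact ⟨h, fun v hv => h v fun u => by rw [QuadraticMap.polar_comm]; exact hv u⟩
  obtain ⟨f, hf⟩ := isPlus_of_singular hnd (w := e) (by rw [Module.finrank_prod, hd]; omega)
    (W := LinearMap.range (LinearMap.inl F K K))
    (by rw [LinearMap.finrank_range_of_inj LinearMap.inl_injective, hd])
    (by rintro _ ⟨x, rfl⟩; simp [hQ])
  refine Real.congr (Q := Q) ⟨prodHom F K K (mulHom g, mulHom g⁻¹), fun v => ?_, ?_⟩ f.symm
    (fun x => by rw [← hf, f.apply_symm_apply])
  · rw [hQ, hQ]
    show ψ ((g : K) * v.1 * (((g⁻¹ : Kˣ) : K) * v.2)) = _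
    rw [mul_mul_mul_comm, ← Units.val_mul, mul_inv_cancel, Units.val_one, one_mul]
  · rw [orderOf_injective (prodHom F K K) prodHom_injective, Prod.orderOf,
      orderOf_injective mulHom mulHom_injective, hgord]
    exact Nat.dvd_lcm_left _ _

variable [CharP F 2]

/-- The quadratic extension of the extension of degree `e`: conjugation and the norm-one circle. -/
theorem exists_circle (e : ℕ) (he : 0 < e) :
    ∃ (K : Type) (_ : Field K) (_ : Algebra F K) (_ : Fintype K) (σ : K →ₐ[F] K) (u : Kˣ),
      finrank F K = e + e ∧ (∀ x, σ (σ x) = x) ∧ orderOf u = Fintype.card F ^ e + 1 ∧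
        (u : K) * σ u = 1 ∧ ∃ x₀, x₀ + σ x₀ ≠ 0 := by
  classical
  obtain ⟨K, _, _, _, hd⟩ := exists_extension (F := F) (e + e) (by omega)
  haveI : Module.Finite F K := Module.Finite.of_finite
  haveI : CharP K 2 := charP_of_injective_algebraMap (algebraMap F K).injective 2
  set Q := Fintype.card F ^ e with hQ
  have hcardK : Fintype.card K = Q * Q := by
    rw [Module.card_eq_pow_finrank (K := F), hd, hQ, pow_add]
  let σ : K →ₐ[F] K := FiniteField.frobeniusAlgHom F K ^ e
  have hσ : ∀ x, σ x = x ^ Q := by
    have : ∀ j x, (FiniteField.frobeniusAlgHom F K ^ j) x = x ^ (Fintype.card F ^ j) := by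
      intro j
      induction j with
      | zero => intro x; simp
      | succ j ih =>
        intro x
        rw [pow_succ, AlgHom.mul_apply, ih, FiniteField.coe_frobeniusAlgHom, ← pow_mul, ← pow_succ']
    exact this e
  have hQ1 : 1 < Q := Nat.one_lt_pow he.ne' Fintype.one_lt_card
  have hσσ : ∀ x, σ (σ x) = x := fun x => by rw [hσ, hσ, ← pow_mul, ← hcardK, FiniteField.pow_card]
  obtain ⟨g, hg⟩ := IsCyclic.exists_generator (α := Kˣ)
  have hgord : orderOf g = Q * Q - 1 := by
    rw [orderOf_eq_card_of_forall_mem_zpowers hg, Nat.card_units, Nat.card_eq_fintype_card, hcardK]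
  have hfac : Q * Q - 1 = (Q + 1) * (Q - 1) := by
    rw [← Nat.sq_sub_sq Q 1] <;> simp [sq]
  have hγ : orderOf (g ^ (Q - 1)) = Q + 1 := by
    rw [orderOf_pow_of_dvd (by omega) (by rw [hgord, hfac]; exact dvd_mul_left _ _), hgord, hfac,
      Nat.mul_div_cancel _ (by omega)]
  refine ⟨K, inferInstance, inferInstance, inferInstance, σ, g ^ (Q - 1), hd, hσσ, hγ, ?_,
    (g : K), fun hfix => ?_⟩
  · rw [hσ, ← pow_succ', ← Units.val_pow_eq_pow_val, ← hγ, pow_orderOf_eq_one, Units.val_one]
  · rw [CharTwo.add_eq_zero, eq_comm] at hfix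
    have h1 : g ^ (Q - 1) = 1 := by
      refine Units.ext ?_
      rw [hσ, show Q = Q - 1 + 1 by omega, pow_succ] at hfix
      rw [Units.val_pow_eq_pow_val, Units.val_one]
      exact (mul_left_eq_self₀.1 hfix).resolve_right g.ne_zero
    rw [h1, orderOf_one] at hγ
    omega

/-- The circle of order `q ^ (k + 1) + 1` in the minus type. -/
theorem real_minus_torus (k : ℕ) {a b : F} (hab : Aniso a b) :
    Real (qMinus k F a b) (Fintype.card F ^ (k + 1) + 1) := by
  classical
  obtain ⟨K, _, _, _, σ, u, hd, hσσ, hu, huσ, x₀, hx₀⟩ := exists_circle (F := F) (k + 1) (by omega)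
  haveI : Module.Finite F K := Module.Finite.of_finite
  obtain ⟨ψ₀, hψ₀⟩ : ∃ ψ : K →ₗ[F] F, ψ (x₀ + σ x₀) ≠ 0 := by
    by_contra hc
    push Not at hc
    exact hx₀ ((Module.forall_dual_apply_eq_zero_iff F _).1 hc)
  let Q : QuadraticForm F K :=
    LinearMap.BilinMap.toQuadraticMap (((LinearMap.mul F K).compl₂ σ.toLinearMap).compr₂ ψ₀)
  have hQ : ∀ x, Q x = ψ₀ (x * σ x) := fun x => rfl
  have hnd : (QuadraticMap.polarBilin Q).Nondegenerate := by
    have h : ∀ x, (∀ y, QuadraticMap.polar Q x y = 0) → x = 0 := by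
      intro x hx
      by_contra hne
      have h := hx (σ (x⁻¹ * x₀))
      rw [QuadraticMap.polar, hQ, hQ, hQ, ← map_sub, ← map_sub] at h
      refine hψ₀ (Eq.trans (congrArg ψ₀ ?_) h)
      have hσx : σ x ≠ 0 := fun h' => hne (by rw [← hσσ x, h', map_zero])
      simp only [map_add, hσσ, map_mul, map_inv₀]
      field_simp
      ring
    exact ⟨h, fun v hv => h v fun u => by rw [QuadraticMap.polar_comm]; exact hv u⟩
  have hiso : ∀ v : K, Q (mulHom (F := F) u v) = Q v := by
    intro v
    rw [hQ, hQ]
    show ψ₀ ((u : K) * v * σ ((u : K) * v)) = _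
    rw [map_mul σ, mul_mul_mul_comm, huσ, one_mul]
  rcases classify hnd (w := k + 1) (by rw [hd]; omega) with hp | ⟨-, hm⟩
  · exfalso
    set q := Fintype.card F with hq
    set Z : Set Kˣ := {v : Kˣ | Q v = 0} with hZ
    have hdvd : q ^ (k + 1) + 1 ∣ Nat.card Z := by
      have hpre : (QuotientGroup.mk (s := Subgroup.zpowers u)) ⁻¹'
          ((QuotientGroup.mk (s := Subgroup.zpowers u)) '' Z) = Z := by
        refine Set.Subset.antisymm ?_ (Set.subset_preimage_image _ _)
        rintro v ⟨w, hw, hwv⟩
        rw [QuotientGroup.eq] at hwv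
        obtain ⟨j, hj⟩ := (mem_powers_iff_mem_zpowers (x := u)).2 hwv
        have hv : v = u ^ j * w := by
          rw [show u ^ j = w⁻¹ * v from hj, mul_comm w⁻¹, inv_mul_cancel_right]
        have hiter : ∀ j : ℕ, Q ((u ^ j * w : Kˣ) : K) = 0 := by
          intro j
          induction j with
          | zero => simpa [hZ] using hw
          | succ j ih =>
            rw [pow_succ', mul_assoc, Units.val_mul]
            exact (hiso _).trans ih
        rw [hv]
        exact hiter j
      rw [← hpre, Nat.card_congr (QuotientGroup.preimageMkEquivSubgroupProdSet _ _), Nat.card_prod,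
        Nat.card_zpowers, hu]
      exact dvd_mul_right _ _
    have hcount : Nat.card {v : K // Q v = 0} = Nat.card Z + 1 := by
      rw [Nat.card_eq_fintype_card, Fintype.card_subtype, Nat.card_eq_fintype_card]
      have : (Finset.univ.filter fun v : K => Q v = 0) =
          insert 0 (Z.toFinset.image fun v : Kˣ => (v : K)) := by
        ext v
        simp only [Finset.mem_filter, Finset.mem_univ, true_and, Finset.mem_insert, Finset.mem_image,
          Set.mem_toFinset, hZ, Set.mem_setOf_eq]
        constructor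
        · intro hv
          rcases eq_or_ne v 0 with h | h
          · exact Or.inl h
          · exact Or.inr ⟨Units.mk0 v h, hv, rfl⟩
        · rintro (rfl | ⟨w, hw, rfl⟩)
          · exact map_zero Q
          · exact hw
      rw [this, Finset.card_insert_of_notMem (by simp), Finset.card_image_of_injective _ Units.val_injective,
        Set.toFinset_card]
    have hc := count_plus rfl hp
    rw [hcount] at hc
    obtain ⟨j, hj⟩ := hdvd
    rw [hj] at hc
    have hq2 : 2 ≤ q := Fintype.one_lt_card
    set Q' := q ^ k with hQ'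
    have h1 : q ^ (k + 1) = Q' * q := pow_succ q k
    have h2 : q ^ (k + 1 + 1) = Q' * q * q := by rw [pow_succ, h1]
    have h3 : q ^ (2 * (k + 1)) = Q' * q * (Q' * q) := by rw [two_mul, pow_add, h1]
    rw [h2, h3, h1] at hc
    have hQ1 : 1 ≤ Q' := Nat.one_le_pow _ _ (by omega)
    have h4 : (Q' * q + 1) * j + 1 + Q' = Q' * (Q' * q) + Q' * q := by
      have hq0 : 0 < q := by omega
      refine Nat.eq_of_mul_eq_mul_right hq0 ?_
      linarith [show ((Q' * q + 1) * j + 1 + Q') * q = ((Q' * q + 1) * j + 1) * q + Q' * q by ring,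
        show (Q' * (Q' * q) + Q' * q) * q = Q' * q * (Q' * q) + Q' * q * q by ring]
    -- `j` lies between `Q'` and `Q' + 1`
    rcases Nat.lt_or_ge j Q' with hlt | hge
    · have h5 : (Q' * q + 1) * (j + 1) ≤ (Q' * q + 1) * Q' := Nat.mul_le_mul_left _ hlt
      nlinarith [h5, h4, hQ1, hq2]
    rcases Nat.lt_or_ge Q' j with hlt | hge'
    · have h5 : (Q' * q + 1) * (Q' + 1) ≤ (Q' * q + 1) * j := Nat.mul_le_mul_left _ hlt
      nlinarith [h5, h4, hQ1, hq2]
    obtain rfl : j = Q' := le_antisymm hge' hge
    have h6 : 2 * Q' + 1 = Q' * q := by nlinarith [h4]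
    have h7 : Even (q : ℕ) := by
      obtain ⟨m, _, hm⟩ := FiniteField.card F 2
      rw [hq, hm]
      exact (Nat.even_pow' m.2.ne').2 even_two
    obtain ⟨m, hm⟩ := h7
    have h8 : Q' * q = 2 * (Q' * m) := by rw [hm]; ring
    omega
  · rw [Nat.add_sub_cancel] at hm
    obtain ⟨a', b', hab', f, hf⟩ := hm
    obtain ⟨M, hM⟩ := exists_plane_change k hab hab'
    refine Real.congr (Q := Q) ⟨mulHom u, hiso, ?_⟩ (f.symm.trans M) fun x => ?_
    · rw [orderOf_injective mulHom mulHom_injective, hu]
    · rw [LinearEquiv.trans_apply, hM, ← hf, f.apply_symm_apply]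

/-- An isometry of order `2 (q + 1)` in the four dimensional plus type. -/
theorem real_plus_two_circle : Real (qPlus 2 F) (2 * (Fintype.card F + 1)) := by
  classical
  obtain ⟨K, _, _, _, σ, u, hd, hσσ, hu, huσ, -⟩ := exists_circle (F := F) 1 one_pos
  haveI : Module.Finite F K := Module.Finite.of_finite
  haveI : CharP K 2 := charP_of_injective_algebraMap (algebraMap F K).injective 2
  obtain ⟨ψ, hψ⟩ : ∃ ψ : K →ₗ[F] F, ψ 1 ≠ 0 := by
    by_contra hc
    push Not at hc
    exact one_ne_zero ((Module.forall_dual_apply_eq_zero_iff F _).1 hc)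
  let Q : QuadraticForm F (K × K) :=
    LinearMap.BilinMap.toQuadraticMap (((LinearMap.mul F K).compr₂ ψ).compl₁₂
      (LinearMap.fst F K K) (LinearMap.snd F K K))
  have hQ : ∀ p, Q p = ψ (p.1 * p.2) := fun p => rfl
  have hnd : (QuadraticMap.polarBilin Q).Nondegenerate := by
    have h : ∀ p, (∀ p', QuadraticMap.polar Q p p' = 0) → p = 0 := by
      intro p hp
      have hpol : ∀ p', QuadraticMap.polar Q p p' = ψ (p.1 * p'.2 + p'.1 * p.2) := by
        intro p'
        simp only [QuadraticMap.polar, hQ, Prod.fst_add, Prod.snd_add, ← map_sub]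
        congr 1; ring
      refine Prod.ext ?_ ?_
      · by_contra hne
        have h := hp (0, p.1⁻¹)
        rw [hpol, zero_mul, add_zero, mul_inv_cancel₀ hne] at h
        exact hψ h
      · by_contra hne
        have h := hp (p.2⁻¹, 0)
        rw [hpol, mul_zero, zero_add, inv_mul_cancel₀ hne] at h
        exact hψ h
    exact ⟨h, fun v hv => h v fun u => by rw [QuadraticMap.polar_comm]; exact hv u⟩
  obtain ⟨f, hf⟩ := isPlus_of_singular hnd (w := 2) (by rw [Module.finrank_prod, hd])
    (W := LinearMap.range (LinearMap.inl F K K))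
    (by rw [LinearMap.finrank_range_of_inj LinearMap.inl_injective, hd])
    (by rintro _ ⟨x, rfl⟩; simp [hQ])
  -- a non-zero element killed by `ψ` on the base field
  obtain ⟨c, hc0, hc⟩ : ∃ c : K, c ≠ 0 ∧ ψ c = 0 := by
    obtain ⟨x, hx, hx0⟩ : ∃ x ∈ LinearMap.ker ψ, x ≠ 0 := by
      refine (Submodule.ne_bot_iff _).1 fun h => ?_
      have := LinearMap.finrank_le_finrank_of_injective (LinearMap.ker_eq_bot.1 h)
      rw [hd, Module.finrank_self] at this
      omega
    exact ⟨x, hx0, hx⟩
  have hN : ∀ y, ∃ r : F, σ y * y = algebraMap F K r := by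
    intro y
    have hfix : ∀ z, σ z = z → ∃ r : F, z = algebraMap F K r := by
      intro z hz
      let L : Submodule F K := LinearMap.ker (σ.toLinearMap - LinearMap.id)
      have hmem : ∀ w, w ∈ L ↔ σ w = w := fun w => by simp [L, sub_eq_zero]
      have hL2 : finrank F L < 2 := by
        have hne : L ≠ ⊤ := by
          intro h
          have hu2 : σ (u : K) = u := (hmem _).1 (h ▸ Submodule.mem_top)
          rw [hu2] at huσ
          have hu1 : u = 1 := Units.ext (CharTwo.sq_injective (by
            show (u : K) ^ 2 = ((1 : Kˣ) : K) ^ 2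
            rw [Units.val_one, one_pow, sq, huσ]))
          rw [hu1, orderOf_one] at hu
          simp at hu
        have := Submodule.finrank_lt hne
        rw [hd] at this
        exact this
      have h1 : Submodule.span F {(1 : K)} = L := by
        refine Submodule.eq_of_le_of_finrank_le ?_ (by rw [finrank_span_singleton one_ne_zero]; omega)
        rw [Submodule.span_singleton_le_iff_mem, hmem, map_one]
      have h2 : z ∈ Submodule.span F {(1 : K)} := h1 ▸ (hmem z).2 hz
      obtain ⟨r, hr⟩ := Submodule.mem_span_singleton.1 h2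
      exact ⟨r, by rw [← hr, Algebra.algebraMap_eq_smul_one]⟩
    exact hfix _ (by rw [map_mul, hσσ, mul_comm])
  let T : (K × K) ≃ₗ[F] (K × K) :=
    { toFun := fun p => (p.1 + c * σ p.2, p.2)
      invFun := fun p => (p.1 + c * σ p.2, p.2)
      map_add' := fun x y => by simp [mul_add]; ring
      map_smul' := fun r x => by simp [mul_smul_comm]
      left_inv := fun p => Prod.ext (by simp [add_assoc, CharTwo.add_self_eq_zero]) rfl
      right_inv := fun p => Prod.ext (by simp [add_assoc, CharTwo.add_self_eq_zero]) rfl }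
  set S := prodHom F K K (mulHom u, mulHom u⁻¹) with hS
  have hSQ : ∀ v, Q (S v) = Q v := fun v => by
    rw [hQ, hQ]
    show ψ ((u : K) * v.1 * (((u⁻¹ : Kˣ) : K) * v.2)) = _
    rw [mul_mul_mul_comm, ← Units.val_mul, mul_inv_cancel, Units.val_one, one_mul]
  have hTQ : ∀ v, Q (T v) = Q v := fun v => by
    rw [hQ, hQ]
    show ψ ((v.1 + c * σ v.2) * v.2) = _
    obtain ⟨r, hr⟩ := hN v.2
    rw [add_mul, map_add, mul_assoc c, hr, mul_comm c, ← Algebra.smul_def, map_smul, hc, smul_zero,
      add_zero]
  have hcomm : Commute S T := by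
    refine LinearEquiv.ext fun v => Prod.ext ?_ rfl
    show (u : K) * (v.1 + c * σ v.2) = (u : K) * v.1 + c * σ (((u⁻¹ : Kˣ) : K) * v.2)
    have : σ ((u⁻¹ : Kˣ) : K) = (u : K) := by
      rw [Units.val_inv_eq_inv_val, map_inv₀, eq_inv_of_mul_eq_one_right huσ, inv_inv]
    rw [map_mul, this]; ring
  have hS1 : orderOf S = Fintype.card F + 1 := by
    rw [hS, orderOf_injective (prodHom F K K) prodHom_injective, Prod.orderOf,
      orderOf_injective mulHom mulHom_injective, orderOf_injective mulHom mulHom_injective,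
      orderOf_inv, Nat.lcm_self, hu, pow_one]
  have hT1 : orderOf T = 2 := by
    refine orderOf_eq_prime (LinearEquiv.ext fun p => ?_) fun h => ?_
    · rw [sq]; exact T.left_inv p
    · have := congrArg Prod.fst (LinearEquiv.congr_fun h (0, 1))
      simp [T, hc0] at this
  refine Real.congr (Q := Q) ⟨T * S, fun v => (hTQ _).trans (hSQ v), ?_⟩ f.symm
    (fun x => by rw [← hf, f.apply_symm_apply])
  rw [hcomm.symm.orderOf_mul_eq_mul_orderOf_of_coprime, hT1, hS1]
  rw [hT1, hS1, Nat.coprime_two_left]
  have h7 : Even (Fintype.card F) := by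
    obtain ⟨m, _, hm⟩ := FiniteField.card F 2
    rw [hm]
    exact (Nat.even_pow' m.2.ne').2 even_two
  exact h7.add_one

end Tori

end Cfsg.Agent.SpecEight
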