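import Cfsg.Agent.Forms.SympDichotomy

/-!
Element orders of the eight dimensional symplectic groups in characteristic two: every order divides
one of twelve numbers.
-/

set_option autoImplicit false

namespace Cfsg.Agent.SpecEight

open Module Polynomial Cfsg.Agent.Forms

/-- The twelve numbers. -/
def InList (q n : ℕ) : Prop :=
  n ∣ q ^ 4 + 1 ∨ n ∣ q ^ 4 - 1 ∨ n ∣ (q ^ 3 - 1) * (q + 1) ∨ n ∣ (q ^ 3 + 1) * (q - 1) ∨
    n ∣ 2 * (q ^ 3 - 1) ∨ n ∣ 2 * (q ^ 3 + 1) ∨ n ∣ 2 * ((q ^ 2 + 1) * (q - 1)) ∨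
    n ∣ 2 * ((q ^ 2 + 1) * (q + 1)) ∨ n ∣ 4 * (q ^ 2 - 1) ∨ n ∣ 4 * (q ^ 2 + 1) ∨
    n ∣ 8 * (q - 1) ∨ n ∣ 8 * (q + 1)

/-- The numerical part. -/
theorem inList_of_atoms (q n a₁ b₁ a₂ b₂ a₃ b₃ a₄ b₄ d : ℕ)
    (hsum : 2 * (a₁ + b₁ + 2 * (a₂ + b₂) + 3 * (a₃ + b₃) + 4 * (a₄ + b₄)) + d ≤ 8)
    (hn : ∀ o c : ℕ, (0 < a₁ → q - 1 ∣ o) → (0 < b₁ → q + 1 ∣ o) → (0 < a₂ → q ^ 2 - 1 ∣ o) →
      (0 < b₂ → q ^ 2 + 1 ∣ o) → (0 < a₃ → q ^ 3 - 1 ∣ o) → (0 < b₃ → q ^ 3 + 1 ∣ o) →
      (0 < a₄ → q ^ 4 - 1 ∣ o) → (0 < b₄ → q ^ 4 + 1 ∣ o) →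
      (d ≤ 2 ^ c ∧ a₁ ≤ 2 ^ c ∧ b₁ ≤ 2 ^ c ∧ a₂ ≤ 2 ^ c ∧ b₂ ≤ 2 ^ c ∧ a₃ ≤ 2 ^ c ∧ b₃ ≤ 2 ^ c ∧
        a₄ ≤ 2 ^ c ∧ b₄ ≤ 2 ^ c) → n ∣ 2 ^ c * o) : InList q n := by
  have e11 : q - 1 ∣ q ^ 2 - 1 := by simpa using Nat.sub_dvd_pow_sub_pow q 1 2
  have e12 : q + 1 ∣ q ^ 2 - 1 := ⟨q - 1, by simpa using Nat.sq_sub_sq q 1⟩
  have e13 : q - 1 ∣ q ^ 3 - 1 := by simpa using Nat.sub_dvd_pow_sub_pow q 1 3
  have e14 : q + 1 ∣ q ^ 3 + 1 := by
    simpa using Odd.nat_add_dvd_pow_add_pow q 1 (show Odd 3 by decide)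
  have h4 : q ^ 4 - 1 = (q ^ 2 + 1) * (q ^ 2 - 1) := by
    rw [show q ^ 4 = (q ^ 2) ^ 2 by ring]; simpa using Nat.sq_sub_sq (q ^ 2) 1
  have e24 : q ^ 2 - 1 ∣ q ^ 4 - 1 := h4 ▸ dvd_mul_left _ _
  have e24' : q ^ 2 + 1 ∣ q ^ 4 - 1 := h4 ▸ dvd_mul_right _ _
  have e14a : q - 1 ∣ q ^ 4 - 1 := e11.trans e24
  have e14b : q + 1 ∣ q ^ 4 - 1 := e12.trans e24
  have m1 : ∀ {u v w : ℕ}, u ∣ v → u ∣ v * w := fun h => h.trans (dvd_mul_right _ _)
  have m2 : ∀ {u v w : ℕ}, u ∣ w → u ∣ v * w := fun h => h.trans (dvd_mul_left _ _)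
  rcases Nat.eq_zero_or_pos (a₄ + b₄) with h₄ | h₄
  swap
  · have : a₁ = 0 ∧ b₁ = 0 ∧ a₂ = 0 ∧ b₂ = 0 ∧ a₃ = 0 ∧ b₃ = 0 ∧ d = 0 ∧ a₄ ≤ 1 ∧ b₄ ≤ 1 := by omega
    rcases Nat.eq_zero_or_pos a₄ with h | h
    · left
      simpa using hn (q ^ 4 + 1) 0 (by omega) (by omega) (by omega) (by omega) (by omega) (by omega)
        (by omega) (fun _ => dvd_rfl) (by simp; omega)
    · right; left
      simpa using hn (q ^ 4 - 1) 0 (by omega) (by omega) (by omega) (by omega) (by omega) (by omega)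
        (fun _ => dvd_rfl) (by omega) (by simp; omega)
  obtain ⟨rfl, rfl⟩ : a₄ = 0 ∧ b₄ = 0 := by omega
  rcases Nat.eq_zero_or_pos a₃ with ha₃ | ha₃
  swap
  · rcases Nat.eq_zero_or_pos b₁ with hb | hb
    · right; right; right; right; left
      exact hn (q ^ 3 - 1) 1 (fun _ => e13) (by omega) (by omega) (by omega) (fun _ => dvd_rfl)
        (by omega) (by omega) (by omega) (by norm_num; omega)
    · right; right; left
      simpa using hn ((q ^ 3 - 1) * (q + 1)) 0 (by omega) (fun _ => m2 dvd_rfl) (by omega) (by omega)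
        (fun _ => m1 dvd_rfl) (by omega) (by omega) (by omega) (by simp; omega)
  rcases Nat.eq_zero_or_pos b₃ with hb₃ | hb₃
  swap
  · rcases Nat.eq_zero_or_pos a₁ with hb | hb
    · right; right; right; right; right; left
      exact hn (q ^ 3 + 1) 1 (by omega) (fun _ => e14) (by omega) (by omega) (by omega)
        (fun _ => dvd_rfl) (by omega) (by omega) (by norm_num; omega)
    · right; right; right; left
      simpa using hn ((q ^ 3 + 1) * (q - 1)) 0 (fun _ => m2 dvd_rfl) (by omega) (by omega) (by omega)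
        (by omega) (fun _ => m1 dvd_rfl) (by omega) (by omega) (by simp; omega)
  subst ha₃ hb₃
  rcases Nat.lt_or_ge (a₁ + b₁ + 2 * (a₂ + b₂)) 4 with hk | hk
  swap
  · -- no fixed part
    rcases Nat.lt_or_ge 1 a₁ with h1 | h1
    · rcases Nat.eq_zero_or_pos b₂ with hb2 | hb2
      · right; right; right; right; right; right; right; right; left
        exact hn (q ^ 2 - 1) 2 (fun _ => e11) (fun _ => e12) (fun _ => dvd_rfl) (by omega)
          (by omega) (by omega) (by omega) (by omega) (by norm_num; omega)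
      · right; right; right; right; right; right; left
        exact hn ((q ^ 2 + 1) * (q - 1)) 1 (fun _ => m2 dvd_rfl) (by omega) (by omega)
          (fun _ => m1 dvd_rfl) (by omega) (by omega) (by omega) (by omega) (by norm_num; omega)
    rcases Nat.lt_or_ge 1 b₁ with h2 | h2
    · rcases Nat.eq_zero_or_pos b₂ with hb2 | hb2
      · right; right; right; right; right; right; right; right; left
        exact hn (q ^ 2 - 1) 2 (fun _ => e11) (fun _ => e12) (fun _ => dvd_rfl) (by omega)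
          (by omega) (by omega) (by omega) (by omega) (by norm_num; omega)
      · right; right; right; right; right; right; right; left
        exact hn ((q ^ 2 + 1) * (q + 1)) 1 (by omega) (fun _ => m2 dvd_rfl) (by omega)
          (fun _ => m1 dvd_rfl) (by omega) (by omega) (by omega) (by omega) (by norm_num; omega)
    rcases Nat.lt_or_ge 1 a₂ with h3 | h3
    · right; right; right; right; right; right; right; right; left
      exact hn (q ^ 2 - 1) 2 (fun _ => e11) (fun _ => e12) (fun _ => dvd_rfl) (by omega)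
        (by omega) (by omega) (by omega) (by omega) (by norm_num; omega)
    rcases Nat.lt_or_ge 1 b₂ with h3' | h3'
    · right; right; right; right; right; right; right; right; right; left
      exact hn (q ^ 2 + 1) 2 (by omega) (by omega) (by omega) (fun _ => dvd_rfl)
        (by omega) (by omega) (by omega) (by omega) (by norm_num; omega)
    right; left
    simpa using hn (q ^ 4 - 1) 0 (fun _ => e14a) (fun _ => e14b) (fun _ => e24) (fun _ => e24')
      (by omega) (by omega) (by omega) (by omega) (by simp; omega)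
  rcases Nat.eq_zero_or_pos b₂ with hb2 | hb2
  swap
  · rcases Nat.eq_zero_or_pos (a₁ + b₁) with h1 | h1
    · right; right; right; right; right; right; right; right; right; left
      exact hn (q ^ 2 + 1) 2 (by omega) (by omega) (by omega) (fun _ => dvd_rfl)
        (by omega) (by omega) (by omega) (by omega) (by norm_num; omega)
    rcases Nat.eq_zero_or_pos a₁ with h1' | h1'
    · right; right; right; right; right; right; right; left
      exact hn ((q ^ 2 + 1) * (q + 1)) 1 (by omega) (fun _ => m2 dvd_rfl) (by omega)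
        (fun _ => m1 dvd_rfl) (by omega) (by omega) (by omega) (by omega) (by norm_num; omega)
    · right; right; right; right; right; right; left
      exact hn ((q ^ 2 + 1) * (q - 1)) 1 (fun _ => m2 dvd_rfl) (by omega) (by omega)
        (fun _ => m1 dvd_rfl) (by omega) (by omega) (by omega) (by omega) (by norm_num; omega)
  rcases Nat.lt_or_ge (a₁ + b₁ + 2 * a₂) 2 with hl | hl
  swap
  · right; right; right; right; right; right; right; right; left
    exact hn (q ^ 2 - 1) 2 (fun _ => e11) (fun _ => e12) (fun _ => dvd_rfl) (by omega)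
      (by omega) (by omega) (by omega) (by omega) (by norm_num; omega)
  rcases Nat.eq_zero_or_pos b₁ with hb | hb
  · right; right; right; right; right; right; right; right; right; right; left
    exact hn (q - 1) 3 (fun _ => dvd_rfl) (by omega) (by omega) (by omega)
      (by omega) (by omega) (by omega) (by omega) (by norm_num; omega)
  · right; right; right; right; right; right; right; right; right; right; right
    exact hn (q + 1) 3 (by omega) (fun _ => dvd_rfl) (by omega) (by omega)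
      (by omega) (by omega) (by omega) (by omega) (by norm_num; omega)

end Cfsg.Agent.SpecEight
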